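import Mathlib

/-!
# The integral lattice argument bounding the degree of the exceptional characters
-/

set_option autoImplicit false

open Matrix

namespace CfsgLib.ZT

variable {J I : Type*} [Fintype J] [DecidableEq J] [Fintype I]

theorem dot_eq_zero_on_image (v : J → ℤ) (μ : I → J) (hμ : Function.Injective μ) {a : ℤ}
    (hv : ∀ i, v (μ i) = a) (hsmall : v ⬝ᵥ v < Fintype.card I) : a = 0 := by
  classical
  have h : ∑ j ∈ Finset.univ.image μ, v j * v j ≤ v ⬝ᵥ v :=
    Finset.sum_le_sum_of_subset_of_nonneg (Finset.subset_univ _) fun j _ _ => mul_self_nonneg (v j)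
  rw [Finset.sum_image fun i _ j _ e => hμ e,
    Finset.sum_congr rfl fun i _ => by rw [hv i], Finset.sum_const, Finset.card_univ,
    nsmul_eq_mul] at h
  by_contra ha
  have h1 : 1 ≤ a * a := by
    rcases lt_or_gt_of_ne ha with h' | h' <;> nlinarith
  have h2 : (Fintype.card I : ℤ) * 1 ≤ Fintype.card I * (a * a) :=
    mul_le_mul_of_nonneg_left h1 (by positivity)
  linarith

/-- The lattice argument: `o`, `s`, `p` are the coordinate vectors of the principal character, of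
the Steinberg constituent of the permutation character and of half the sum of the induced linear
characters; `c i` are the coordinate vectors of the exceptional generalized characters. -/
theorem coherent_core (o s p dg : J → ℤ) (c : I → J → ℤ) (μ : I → J) (hμ : Function.Injective μ)
    (ε : ℤ) (hε : ε = 1 ∨ ε = -1) (e h F : ℤ) (he : 3 ≤ e) (hh : 0 ≤ h)
    (hF : F = Fintype.card I) (hFe : e + 2 ≤ F) (hdpos : ∀ j, 0 < dg j)
    (hoo : o ⬝ᵥ o = 1) (hss : s ⬝ᵥ s = 1) (hpp : 2 * (p ⬝ᵥ p) = e - 1)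
    (hos : o ⬝ᵥ s = 0) (hop : o ⬝ᵥ p = 0) (hsp : s ⬝ᵥ p = 0)
    (hco : ∀ i, c i ⬝ᵥ o = 0) (hcs : ∀ i, c i ⬝ᵥ s = 0) (hcp : ∀ i, c i ⬝ᵥ p = 0)
    (hcc : ∀ i, 2 * (c i ⬝ᵥ c i) = e + 1)
    (hcc' : ∀ i k, i ≠ k → 2 * (c i ⬝ᵥ c k) = e - 1)
    (hdiff : ∀ i k j, c i j - c k j =
      ε * ((if μ i = j then 1 else 0) - (if μ k = j then 1 else 0)))
    (hdo : o ⬝ᵥ dg = 1) (hds : s ⬝ᵥ dg = h) (hdp : 2 * (p ⬝ᵥ dg) = (h + 1) * (e - 1))
    (hdc : ∀ i, 2 * (c i ⬝ᵥ dg) = -((e - 1) * h + e + 1))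
    (hdd : dg ⬝ᵥ dg = (h + 1) * h * e) :
    ∃ d : ℤ, 0 < d ∧ (∀ i, dg (μ i) = d) ∧ (∀ i k, i ≠ k → c i (μ k) = 0) ∧
      F * d < 2 * h + 4 := by
  classical
  obtain ⟨i₀⟩ : Nonempty I := Fintype.card_pos_iff.1 (by omega)
  have hsub : ∀ (v : J → ℤ) i k, c i ⬝ᵥ v - c k ⬝ᵥ v = ε * (v (μ i) - v (μ k)) := by
    intro v i k
    rw [← sub_dotProduct]
    simp only [dotProduct, Pi.sub_apply, hdiff, mul_sub, sub_mul, mul_ite, ite_mul, mul_one,
      mul_zero, zero_mul, Finset.sum_sub_distrib, Finset.sum_ite_eq, Finset.mem_univ, if_true]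
  have hε2 : ε * ε = 1 := by rcases hε with rfl | rfl <;> norm_num
  have hcancel : ∀ x : ℤ, ε * x = 0 → x = 0 := fun x hx => by
    have := congrArg (ε * ·) hx
    simpa [← mul_assoc, hε2] using this
  have hzero : ∀ v : J → ℤ, (∀ i, c i ⬝ᵥ v = 0) → v ⬝ᵥ v < F → ∀ i, v (μ i) = 0 := by
    intro v hv hn i
    have hconst : ∀ k, v (μ k) = v (μ i₀) := fun k => by
      have := hsub v k i₀
      rw [hv, hv, sub_zero] at this
      exact sub_eq_zero.1 (hcancel _ this.symm)
    have := dot_eq_zero_on_image v μ hμ hconst (hF ▸ hn)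
    rw [hconst, this]
  have ho0 := hzero o hco (by omega)
  have hs0 := hzero s hcs (by omega)
  have hp0 := hzero p hcp (by omega)
  -- the values of `c i` on the exceptional characters
  have hcdiag : ∀ i k, c i (μ k) = if i = k then ε else 0 := by
    intro i
    have hoff : ∀ k, i ≠ k → c i (μ k) = c i (μ i) - ε := by
      intro k hk
      have h1 := hsub (c i) i k
      have h2 := hcc i
      have h3 := hcc' k i hk.symm
      have h4 : ε * (c i (μ i) - c i (μ k)) = 1 := by omega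
      have h5 : c i (μ i) - c i (μ k) = ε := by
        have := congrArg (ε * ·) h4
        simpa [← mul_assoc, hε2] using this
      omega
    have hb : c i (μ i) - ε = 0 := by
      refine dot_eq_zero_on_image (I := {k // k ≠ i}) (c i) (fun k => μ k.1)
        (fun k l e => Subtype.ext (hμ e)) (fun k => hoff k.1 (Ne.symm k.2)) ?_
      rw [Fintype.card_subtype_compl, Fintype.card_subtype_eq]
      have := hcc i
      omega
    intro k
    split_ifs with hik
    · subst hik; omega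
    · rw [hoff k hik, hb]
  -- the common degree
  have hdeg : ∀ i, dg (μ i) = dg (μ i₀) := fun i => by
    have h1 := hsub dg i i₀
    have h2 := hdc i
    have h3 := hdc i₀
    have h4 : ε * (dg (μ i) - dg (μ i₀)) = 0 := by omega
    exact sub_eq_zero.1 (hcancel _ h4)
  set d := dg (μ i₀) with hd
  have hd0 : 0 < d := hdpos _
  refine ⟨d, hd0, hdeg, fun i k hik => by rw [hcdiag, if_neg hik], ?_⟩
  let x : J → ℤ := fun j => if ∃ i, μ i = j then 1 else 0
  let u : J → ℤ := fun j => if μ i₀ = j then 1 else 0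
  let v₀ : J → ℤ := c i₀ - ε • u
  let d' : J → ℤ := dg - o - h • s - (h + 1) • p - d • x
  have hxdot : ∀ w : J → ℤ, w ⬝ᵥ x = ∑ i, w (μ i) := by
    intro w
    simp only [dotProduct, x, mul_ite, mul_one, mul_zero]
    rw [← Finset.sum_filter, show (Finset.univ.filter fun j => ∃ i, μ i = j) = Finset.univ.image μ by
      ext; simp, Finset.sum_image fun i _ j _ e => hμ e]
  have hudot : ∀ w : J → ℤ, w ⬝ᵥ u = w (μ i₀) := by
    intro w
    simp [dotProduct, u, Finset.sum_ite_eq]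
  have hox : o ⬝ᵥ x = 0 := by rw [hxdot]; simp [ho0]
  have hsx : s ⬝ᵥ x = 0 := by rw [hxdot]; simp [hs0]
  have hpx : p ⬝ᵥ x = 0 := by rw [hxdot]; simp [hp0]
  have hdx : dg ⬝ᵥ x = F * d := by rw [hxdot]; simp [hdeg, hF]
  have hcx : c i₀ ⬝ᵥ x = ε := by rw [hxdot]; simp [hcdiag]
  have hxx : x ⬝ᵥ x = F := by
    rw [hxdot, hF]
    have : ∀ i, x (μ i) = 1 := fun i => if_pos ⟨i, rfl⟩
    simp [this]
  have hou : o ⬝ᵥ u = 0 := by rw [hudot, ho0]
  have hsu : s ⬝ᵥ u = 0 := by rw [hudot, hs0]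
  have hpu : p ⬝ᵥ u = 0 := by rw [hudot, hp0]
  have hcu : c i₀ ⬝ᵥ u = ε := by rw [hudot, hcdiag, if_pos rfl]
  have huu : u ⬝ᵥ u = 1 := by rw [hudot]; exact if_pos rfl
  have hxu : x ⬝ᵥ u = 1 := by rw [hudot]; exact if_pos ⟨i₀, rfl⟩
  have hdu : dg ⬝ᵥ u = d := hudot dg
  have hvv : 2 * (v₀ ⬝ᵥ v₀) = e - 1 := by
    simp only [v₀, sub_dotProduct, dotProduct_sub, smul_dotProduct, dotProduct_smul,
      smul_eq_mul, dotProduct_comm u (c i₀), hcu, huu]
    linear_combination hcc i₀ - 2 * hε2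
  have hvd : 2 * (v₀ ⬝ᵥ d') = -((e - 1) * h + e + 1) - 2 * ε * d := by
    simp only [v₀, d', sub_dotProduct, dotProduct_sub, smul_dotProduct, dotProduct_smul,
      smul_eq_mul, dotProduct_comm u, hco, hcs, hcp, hou, hsu, hpu, hcx, hxu, hdu]
    linear_combination hdc i₀
  have hd'd' : 2 * (d' ⬝ᵥ d') = 2 * ((h + 1) * h * e) - 2 - 2 * (h * h) -
      (h + 1) * (h + 1) * (e - 1) - 2 * (F * (d * d)) := by
    simp only [d', sub_dotProduct, dotProduct_sub, smul_dotProduct, dotProduct_smul,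
      smul_eq_mul, dotProduct_comm dg o, dotProduct_comm dg s, dotProduct_comm dg p,
      dotProduct_comm x o, dotProduct_comm x s, dotProduct_comm x p, dotProduct_comm x dg,
      dotProduct_comm s o, dotProduct_comm p o, dotProduct_comm p s,
      hdo, hds, hdd, hoo, hss, hos, hop, hsp, hox, hsx, hpx, hdx, hxx]
    linear_combination (-2 * (h + 1)) * hdp + (h + 1) * (h + 1) * hpp
  have hCS : (v₀ ⬝ᵥ d') ^ 2 ≤ (v₀ ⬝ᵥ v₀) * (d' ⬝ᵥ d') := by
    simp only [dotProduct, ← sq]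
    exact Finset.sum_mul_sq_le_sq_mul_sq Finset.univ v₀ d'
  have h4 : (2 * (v₀ ⬝ᵥ d')) ^ 2 ≤ (2 * (v₀ ⬝ᵥ v₀)) * (2 * (d' ⬝ᵥ d')) := by
    linear_combination 4 * hCS
  rw [hvd, hvv, hd'd'] at h4
  set T := (e - 1) * h + e + 1 with hT
  have hT0 : 0 < T := by
    have := mul_nonneg (show (0 : ℤ) ≤ e - 1 by omega) hh
    omega
  have h5 : 2 * (e * T) + 4 * (ε * d) * T + (d * d) * (4 + 2 * ((e - 1) * F)) ≤ 0 := by
    have hd2 : (2 * ε * d) ^ 2 = 4 * (d * d) := by linear_combination 4 * (d * d) * hε2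
    rw [hT] at h4 ⊢
    linear_combination h4 - hd2
  have hTpos := mul_pos (show (0 : ℤ) < e by omega) hT0
  have hneg : ε = -1 := by
    rcases hε with h' | h'
    · exfalso
      rw [h'] at h5
      have h6 : 0 ≤ (d * d) * (4 + 2 * ((e - 1) * F)) :=
        mul_nonneg (mul_self_nonneg d)
          (add_nonneg (by norm_num) (mul_nonneg (by norm_num) (mul_nonneg (by omega) (by omega))))
      have h7 := mul_pos hd0 hT0
      linarith
    · exact h'
  rw [hneg] at h5
  have h7 : d * ((4 + 2 * ((e - 1) * F)) * d) < d * (4 * T) := by linarith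
  have h8 := lt_of_mul_lt_mul_left h7 hd0.le
  rw [hT] at h8
  by_contra hge
  push Not at hge
  have h9 : (e - 1) * (2 * h + 4) ≤ (e - 1) * (F * d) := mul_le_mul_of_nonneg_left hge (by omega)
  linarith

end CfsgLib.ZT
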