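import Cfsg.Agent.Lib.Char.Complete
import Cfsg.Agent.Lib.Char.Linear
import Cfsg.Agent.Lib.Char.CentralOver
import Cfsg.Agent.Lib.Char.Orth
import Cfsg.Agent.Lib.Char.Virtual

/-!
# A row orthogonality bound for characters agreeing on a subgroup
-/

set_option autoImplicit false
set_option linter.style.haveILetI false

open scoped ComplexConjugate

namespace CfsgLib.ZT

universe u

variable {G : Type u} [Group G] [Fintype G]

/-- A character whose degree is not divisible by the order of an abelian subgroup has large values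
on it. -/
theorem le_sum_normSq {A : Subgroup G} [Fintype A] [DecidableEq A] (hA : ∀ x y : A, x * y = y * x) {χ : G → ℂ}
    (hχ : Cfsg.IsCharacter G χ) {d : ℕ} (hd : χ 1 = d) (hdvd : ¬ Nat.card A ∣ d) :
    (Nat.card A : ℝ) - 1 ≤
      ∑ g ∈ (Finset.univ : Finset A).erase 1, Complex.normSq (χ g) := by
  classical
  have hres : Cfsg.IsCharacter A (fun g : A => χ g) :=
    Char.IsCharacter.comp hχ A.subtype
  choose m hm using fun ψ : Cfsg.IrrCharacter A => Char.IsCharacter.exists_nat_classInner hres ψ.2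
  have hψ1 : ∀ ψ : Cfsg.IrrCharacter A, (ψ : A → ℂ) 1 = 1 := fun ψ => (CharOver.abelian_irr hA ψ.2).1
  have hcard : (Finset.univ : Finset (Cfsg.IrrCharacter A)).card = Nat.card A := by
    have h := Char.sum_apply_one_sq (G := A)
    simp only [hψ1, one_pow, Finset.sum_const, nsmul_eq_mul, mul_one] at h
    exact_mod_cast h
  have hsum : ∑ ψ, (m ψ : ℤ) = (d : ℤ) := by
    have h := congrFun (Char.IsCharacter.eq_sum_classInner hres) 1
    simp only [Finset.sum_apply, Pi.smul_apply, smul_eq_mul, hψ1, mul_one, hm, OneMemClass.coe_one,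
      hd] at h
    exact_mod_cast h.symm
  have hsq : (∑ g : A, Complex.normSq (χ g) : ℝ) = Nat.card A * ∑ ψ, ((m ψ : ℝ) * m ψ) := by
    have h := Char.classInner_eq_sum (G := A) (Char.IsCharacter.isClassFunction hres)
      (Char.IsCharacter.isClassFunction hres)
    rw [Cfsg.classInner] at h
    simp only [hm, Complex.conj_natCast] at h
    have hA0 : (Nat.card A : ℂ) ≠ 0 := Nat.cast_ne_zero.2 Nat.card_pos.ne'
    rw [inv_mul_eq_iff_eq_mul₀ hA0, Finset.sum_congr rfl (fun g _ => Complex.mul_conj _)] at h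
    exact_mod_cast h
  -- shift the multiplicities by the integral part of the mean
  set a := Nat.card A
  have ha : 0 < a := Nat.card_pos
  let y : Cfsg.IrrCharacter A → ℤ := fun ψ => (m ψ : ℤ) - (d / a : ℕ)
  have hy : ∑ ψ, y ψ = (d % a : ℕ) := by
    simp only [y, Finset.sum_sub_distrib, Finset.sum_const, hsum, hcard, nsmul_eq_mul]
    have := Nat.div_add_mod d a
    zify at this
    push_cast
    linarith
  have hyy : (d % a : ℕ) ≤ ∑ ψ, y ψ * y ψ := by
    rw [← hy]
    exact Finset.sum_le_sum fun ψ _ => Int.le_self_sq _ |>.trans_eq (sq _)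
  have hvar : (a : ℤ) * ∑ ψ, ((m ψ : ℤ) * m ψ) - (d : ℤ) * d =
      a * ∑ ψ, y ψ * y ψ - ((d % a : ℕ) : ℤ) * (d % a : ℕ) := by
    have e : ∀ ψ, y ψ * y ψ =
        (m ψ : ℤ) * m ψ - 2 * (d / a : ℕ) * m ψ + ((d / a : ℕ) : ℤ) * (d / a : ℕ) := fun ψ => by
      simp only [y]; ring
    rw [Finset.sum_congr rfl fun ψ _ => e ψ, Finset.sum_add_distrib, Finset.sum_sub_distrib,
      Finset.sum_const, hcard, ← Finset.mul_sum, hsum, nsmul_eq_mul]
    have h1 := Nat.div_add_mod d a
    zify at h1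
    push_cast
    linear_combination ((d : ℤ) + (d : ℤ) % a - (a : ℤ) * ((d : ℤ) / a)) * h1
  have hr : 1 ≤ d % a := by
    rw [Nat.one_le_iff_ne_zero]
    exact fun h => hdvd (Nat.dvd_of_mod_eq_zero h)
  have hr' : d % a < a := Nat.mod_lt _ ha
  have hkey : (a : ℤ) - 1 ≤ (a : ℤ) * ∑ ψ, ((m ψ : ℤ) * m ψ) - (d : ℤ) * d := by
    rw [hvar]
    have h1 := mul_le_mul_of_nonneg_left hyy (show (0 : ℤ) ≤ a by positivity)
    have h2 : 0 ≤ (((d % a : ℕ) : ℤ) - 1) * ((a : ℤ) - 1 - (d % a : ℕ)) :=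
      mul_nonneg (by omega) (by omega)
    linarith
  have hkey' : (a : ℝ) - 1 ≤ (a : ℝ) * ∑ ψ, ((m ψ : ℝ) * m ψ) - (d : ℝ) * d := by exact_mod_cast hkey
  rw [← hsq, ← Finset.add_sum_erase _ _ (Finset.mem_univ (1 : A)), OneMemClass.coe_one, hd,
    Complex.normSq_natCast] at hkey'
  linarith

/-- Irreducible characters taking equal values on a subgroup whose conjugates meet trivially
take small values there. -/
theorem sum_normSq_le {ι : Type*} [Fintype ι] (μ : ι → Cfsg.IrrCharacter G)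
    (hμ : Function.Injective μ) {A : Subgroup G} [Fintype A] [DecidableEq A] (v : G → ℂ)
    (hv : ∀ i, ∀ g ∈ A, g ≠ 1 → (μ i : G → ℂ) g = v g) (M : ℕ)
    (hM : ∀ g ∈ A, g ≠ 1 → ∀ x₀ : G,
      Nat.card {x : G // ∃ g' ∈ A, g' ≠ 1 ∧ x * g' * x⁻¹ = x₀ * g * x₀⁻¹} ≤ M) :
    (Fintype.card ι : ℝ) * ∑ g ∈ (Finset.univ : Finset A).erase 1, Complex.normSq (v g) ≤ M := by
  classical
  set S : G → ℂ := fun g => ∑ i, (μ i : G → ℂ) g with hS
  have hG : (∑ g : G, Complex.normSq (S g) : ℝ) = Nat.card G * Fintype.card ι := by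
    have h : Cfsg.classInner S S = (Fintype.card ι : ℂ) := by
      have e : S = ∑ i, (μ i : G → ℂ) := by funext g; simp [hS]
      rw [e, Char.classInner_sum_left]
      simp [Char.classInner_sum_right, Char.classInner_irrCharacter, hμ.eq_iff]
    rw [Cfsg.classInner, inv_mul_eq_iff_eq_mul₀ (Nat.cast_ne_zero.2 Nat.card_pos.ne'),
      Finset.sum_congr rfl (fun g _ => Complex.mul_conj _)] at h
    exact_mod_cast h
  have hScl : ∀ x g : G, S (x * g * x⁻¹) = S g := fun x g => by
    simp only [hS]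
    exact Finset.sum_congr rfl fun i _ => Char.IsIrrCharacter.isClassFunction (μ i).2 g x
  set P : Finset (G × A) := Finset.univ ×ˢ ((Finset.univ : Finset A).erase 1) with hP
  let φ : G × A → G := fun p => p.1 * p.2 * p.1⁻¹
  have hfib : ∀ y : G, (P.filter fun p => φ p = y).card ≤ M := by
    intro y
    rcases (P.filter fun p => φ p = y).eq_empty_or_nonempty with h | ⟨p₀, hp₀⟩
    · rw [h]; simp
    obtain ⟨hp₀P, hp₀y⟩ := Finset.mem_filter.1 hp₀
    have hg1 : (p₀.2 : G) ≠ 1 := fun e => by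
      simp [hP, Subtype.ext_iff, e] at hp₀P
    refine le_trans ?_ (hM p₀.2 p₀.2.2 hg1 p₀.1)
    rw [Nat.card_eq_fintype_card, Fintype.card_subtype]
    refine Finset.card_le_card_of_injOn Prod.fst (fun p hp => ?_) (fun p hp p' hp' e => ?_)
    · obtain ⟨hpP, hpy⟩ := Finset.mem_filter.1 hp
      exact Finset.mem_filter.2 ⟨Finset.mem_univ _, p.2, p.2.2, fun h => by
        simp [hP, Subtype.ext_iff, h] at hpP, hpy.trans hp₀y.symm⟩
    · have h1 := (Finset.mem_filter.1 hp).2
      have h2 := (Finset.mem_filter.1 hp').2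
      refine Prod.ext e (Subtype.ext ?_)
      simp only [φ] at h1 h2
      rw [← e, ← h1] at h2
      exact (mul_left_cancel (mul_right_cancel h2)).symm
  have hle : ∑ p ∈ P, Complex.normSq (S (φ p)) ≤ (M : ℝ) * ∑ y : G, Complex.normSq (S y) := by
    rw [← Finset.sum_fiberwise_of_maps_to (g := φ) (t := Finset.univ) (fun _ _ => Finset.mem_univ _),
      Finset.mul_sum]
    refine Finset.sum_le_sum fun y _ => ?_
    rw [Finset.sum_congr rfl (g := fun _ => Complex.normSq (S y)) (fun p hp => by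
      rw [(Finset.mem_filter.1 hp).2]), Finset.sum_const, nsmul_eq_mul]
    exact mul_le_mul_of_nonneg_right (by exact_mod_cast hfib y) (Complex.normSq_nonneg _)
  have hleft : ∑ p ∈ P, Complex.normSq (S (φ p)) = (Nat.card G : ℝ) *
      ((Fintype.card ι : ℝ) ^ 2 *
        ∑ g ∈ (Finset.univ : Finset A).erase 1, Complex.normSq (v g)) := by
    rw [hP, Finset.sum_product, Finset.sum_congr rfl (g := fun _ => (Fintype.card ι : ℝ) ^ 2 *
      ∑ g ∈ (Finset.univ : Finset A).erase 1, Complex.normSq (v g)) (fun x _ => ?_),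
      Finset.sum_const, Finset.card_univ, nsmul_eq_mul, Nat.card_eq_fintype_card]
    rw [Finset.mul_sum]
    refine Finset.sum_congr rfl fun g hg => ?_
    show Complex.normSq (S (x * g * x⁻¹)) = _
    rw [hScl]
    simp only [hS]
    rw [Finset.sum_congr rfl (fun i _ => hv i g g.2 (fun e => (Finset.mem_erase.1 hg).1 (Subtype.ext e))),
      Finset.sum_const, nsmul_eq_mul, map_mul, Complex.normSq_natCast, Finset.card_univ, sq]
  rw [hleft, hG] at hle
  rcases Nat.eq_zero_or_pos (Fintype.card ι) with h0 | h0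
  · rw [h0]; simp
  have hG0 : (0 : ℝ) < Nat.card G := by exact_mod_cast Nat.card_pos
  have hι : (0 : ℝ) < Fintype.card ι := by exact_mod_cast h0
  refine le_of_mul_le_mul_left ?_ (mul_pos hG0 hι)
  linarith

end CfsgLib.ZT
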