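import Cfsg.Agent.Lib.ZT.CharValues
import Cfsg.Agent.Lib.ZT.Core
import Cfsg.Agent.Lib.ZT.RowBound
import Cfsg.Agent.Lib.Char.Exceptional
import Mathlib.GroupTheory.FiniteAbelian.Duality
import Mathlib.Analysis.Complex.Polynomial.Basic

/-!
# The exceptional characters
-/

set_option autoImplicit false
set_option linter.style.haveILetI false
set_option linter.unusedSectionVars false

open MulAction Matrix
open scoped ComplexConjugate

namespace CfsgLib.ZT

open CfsgLib.Zass CfsgLib.SuzukiTwo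

universe u

/-- The number of linear characters trivial on a normal subgroup with commutative quotient. -/
theorem card_linear_trivial {H : Type u} [Group H] [Finite H] (W : Subgroup H) [W.Normal]
    (hc : ∀ x y : H, x⁻¹ * y⁻¹ * x * y ∈ W) :
    Nat.card {f : H →* ℂˣ // ∀ w ∈ W, f w = 1} = Nat.card (H ⧸ W) := by
  letI : CommGroup (H ⧸ W) :=
    { (inferInstance : Group (H ⧸ W)) with
      mul_comm := fun x y => by
        induction x using QuotientGroup.induction_on with
        | _ x =>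
          induction y using QuotientGroup.induction_on with
          | _ y =>
            refine QuotientGroup.eq.2 ?_
            have := hc y x
            rwa [show y⁻¹ * x⁻¹ * y * x = (x * y)⁻¹ * (y * x) by group] at this }
  haveI : NeZero (Monoid.exponent (H ⧸ W) : ℂ) :=
    ⟨Nat.cast_ne_zero.2 Monoid.exponent_ne_zero_of_finite⟩
  rw [← CommGroup.card_monoidHom_of_hasEnoughRootsOfUnity (H ⧸ W) ℂ]
  exact Nat.card_congr
    { toFun := fun f => QuotientGroup.lift W f.1 (fun w hw => f.2 w hw)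
      invFun := fun g => ⟨g.comp (QuotientGroup.mk' W), fun w hw => by
        show g (QuotientGroup.mk' W w) = 1
        rw [show QuotientGroup.mk' W w = 1 from (QuotientGroup.eq_one_iff w).2 hw, map_one]⟩
      left_inv := fun f => Subtype.ext (MonoidHom.ext fun x => rfl)
      right_inv := fun g => MonoidHom.ext fun x => by
        induction x using QuotientGroup.induction_on with
        | _ x => rfl }

section Coeff

variable {G : Type u} [Group G] [Fintype G]

theorem dot_eq_classInner {θ η : G → ℂ} (hθ : Cfsg.IsClassFunction G θ)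
    (hη : Cfsg.IsClassFunction G η) {A B : Cfsg.IrrCharacter G → ℤ}
    (hA : ∀ χ : Cfsg.IrrCharacter G, Cfsg.classInner θ (χ : G → ℂ) = A χ) (hB : ∀ χ : Cfsg.IrrCharacter G, Cfsg.classInner η (χ : G → ℂ) = B χ) :
    ((A ⬝ᵥ B : ℤ) : ℂ) = Cfsg.classInner θ η := by
  rw [Char.classInner_eq_sum hθ hη, dotProduct]
  push_cast
  exact Finset.sum_congr rfl fun χ _ => by rw [hA, hB, map_intCast]

theorem dot_deg {θ : G → ℂ} (hθ : Cfsg.IsClassFunction G θ)
    {A D : Cfsg.IrrCharacter G → ℤ} (hA : ∀ χ : Cfsg.IrrCharacter G, Cfsg.classInner θ (χ : G → ℂ) = A χ)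
    (hD : ∀ χ : Cfsg.IrrCharacter G, (χ : G → ℂ) 1 = D χ) :
    ((A ⬝ᵥ D : ℤ) : ℂ) = θ 1 := by
  conv_rhs => rw [Char.IsClassFunction.eq_sum_classInner hθ]
  rw [dotProduct, Finset.sum_apply]
  push_cast
  exact Finset.sum_congr rfl fun χ _ => by rw [Pi.smul_apply, smul_eq_mul, hA, hD]

theorem int_of_classInner {θ : G → ℂ} (hθ : Cfsg.IsGeneralizedCharacter G θ) :
    ∃ A : Cfsg.IrrCharacter G → ℤ, ∀ χ : Cfsg.IrrCharacter G, Cfsg.classInner θ (χ : G → ℂ) = A χ := by
  choose A hA using fun χ : Cfsg.IrrCharacter G => CharExc.exists_int_classInner hθ χ.2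
  exact ⟨A, hA⟩

end Coeff

variable {G : Type u} {Ω : Type*} [Group G] [Fintype G] [MulAction G Ω] [Fintype Ω]

namespace Setting

variable {a b : Ω} {U : Subgroup G} (hS : Setting G a b U)
include hS

theorem comm_mem_omega (x y : U) : x⁻¹ * y⁻¹ * x * y ∈ omegaCenter U := by
  have hsq : ∀ z : U, z * z ∈ omegaCenter U := fun z => sq_mem_omega hS.regularInv hS.nonab' z
  have e : x⁻¹ * y⁻¹ * x * y = (x⁻¹ * x⁻¹) * (x * y⁻¹ * x⁻¹ * (x * y⁻¹ * x⁻¹)) *
      (x * y * (x * y)) := by group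
  rw [e]
  exact Subgroup.mul_mem _ (Subgroup.mul_mem _ (hsq _) (hsq _)) (hsq _)

theorem not_conj_kernel {g : G} (hg : ∀ c : Ω, g • c = c → ∃ d, d ≠ c ∧ g • d = d) (hg1 : g ≠ 1)
    (x : G) : x⁻¹ * g * x ∉ U := by
  intro hx
  have hxa : g • x • a = x • a := by
    have := hS.kernel.le _ hx
    rwa [mul_smul, mul_smul, inv_smul_eq_iff] at this
  obtain ⟨d, hd, hd'⟩ := hg _ hxa
  have h1 : (x⁻¹ * g * x) • x⁻¹ • d = x⁻¹ • d := by
    rw [mul_smul, mul_smul, smul_inv_smul, hd']
  have h2 := hS.kernel.fix _ hx (fun e => hg1 (by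
    calc g = x * (x⁻¹ * g * x) * x⁻¹ := by group
      _ = 1 := by rw [e]; group)) _ h1
  exact hd (by rw [← h2, smul_inv_smul])

theorem exists_exceptional {r : ℕ} (hr : 3 ≤ r)
    (hh : Nat.card U = (Nat.card ↥(pair G a b) + 1) ^ r) :
    ∃ F d : ℕ, F * Nat.card ↥(pair G a b) + 1 = (Nat.card ↥(pair G a b) + 1) ^ (r - 1) ∧ 0 < d ∧
      Nat.card ↥(pair G a b) ∣ d ∧ F * d < 2 * Nat.card U + 4 ∧
      ∀ A : Subgroup G, IsTorus Ω A → ∀ w : ℕ,
        Nat.card (Subgroup.normalizer (A : Set G)) = w * Nat.card A →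
          Nat.card A ∣ d ∨ F * (Nat.card A - 1) ≤ w * Nat.card A := by
  classical
  haveI := Fintype.ofFinite U
  haveI := Fintype.ofFinite ↥(pair G a b)
  haveI := Fintype.ofFinite (stabilizer G a)
  haveI hWn : (omegaCenter U).Normal := omega_normal
  set e := Nat.card ↥(pair G a b) with he
  set h := Nat.card U with hhdef
  have he3 : 3 ≤ e := hS.three_le_e
  -- the linear characters
  let L := {f : U →* ℂˣ // f ≠ 1 ∧ ∀ w ∈ omegaCenter U, f w = 1}
  haveI : Finite {f : U →* ℂˣ // ∀ w ∈ omegaCenter U, f w = 1} :=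
    Nat.finite_of_card_ne_zero (by
      rw [card_linear_trivial _ hS.comm_mem_omega]; exact Nat.card_pos.ne')
  haveI : Finite L := Finite.of_injective
    (fun f : L => (⟨f.1, f.2.2⟩ : {f : U →* ℂˣ // ∀ w ∈ omegaCenter U, f w = 1}))
    fun f g hfg => Subtype.ext (congrArg (fun z => z.1) hfg)
  haveI : Fintype L := Fintype.ofFinite L
  have hLcard : Fintype.card L + 1 = (e + 1) ^ (r - 1) := by
    haveI := Fintype.ofFinite {f : U →* ℂˣ // ∀ w ∈ omegaCenter U, f w = 1}
    have h1 := card_linear_trivial _ hS.comm_mem_omega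
    rw [Nat.card_eq_fintype_card] at h1
    have h2 : Fintype.card L + 1 = Fintype.card {f : U →* ℂˣ // ∀ w ∈ omegaCenter U, f w = 1} := by
      rw [← Fintype.card_option]
      refine Fintype.card_congr
        { toFun := fun o => o.elim ⟨1, fun w _ => rfl⟩ fun f => ⟨f.1, f.2.2⟩
          invFun := fun f => if hf : f.1 = 1 then none else some ⟨f.1, hf, f.2⟩
          left_inv := fun o => by
            cases o with
            | none => simp
            | some f => simp [f.2.1]
          right_inv := fun f => by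
            by_cases hf : f.1 = 1 <;> simp [hf]
            exact Subtype.ext hf.symm }
    rw [h2, h1]
    have h3 := Subgroup.card_eq_card_quotient_mul_card_subgroup (omegaCenter U)
    rw [← hS.card_center, ← hhdef, hh, ← he] at h3
    refine Nat.eq_of_mul_eq_mul_right (show 0 < e + 1 by omega) ?_
    rw [← h3, ← pow_succ, Nat.sub_add_cancel (by omega)]
  have htw : ∀ (f : L) (k : ↥(pair G a b)), twist hS.kernel f.1 k ≠ 1 ∧
      ∀ w ∈ omegaCenter U, twist hS.kernel f.1 k w = 1 := fun f k =>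
    ⟨hS.twist_ne_one f.2.1 k, fun w hw => f.2.2 _ (kInv_omegaCenter
      (K := (conjHom (b := b) hS.kernel).range) _ ⟨k, rfl⟩ w hw)⟩
  -- equal induced functions come from one orbit
  have hinner : ∀ f g : L, Cfsg.classInner (excFun f.1) (excFun g.1) =
      (e : ℂ) + ((Finset.univ.filter fun k : ↥(pair G a b) => f.1 = twist hS.kernel g.1 k).card : ℂ) :=
    fun f g => hS.classInner_excFun f.2.1 g.2.1
  have htwist1 : ∀ g : L, twist (b := b) hS.kernel g.1 1 = g.1 := fun g => by
    refine MonoidHom.ext fun u => ?_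
    show g.1 (conjHom (b := b) hS.kernel 1 u) = g.1 u
    rw [map_one]; rfl
  have hstab : ∀ g : L, ∀ k l : ↥(pair G a b),
      twist hS.kernel g.1 k = twist hS.kernel g.1 l → k = l := by
    intro g k l hkl
    by_contra hne
    refine hS.twist_ne (hS.twist_ne_one g.2.1 l) (k := l⁻¹ * k) (fun e0 => hne (inv_mul_eq_one.1 e0).symm) ?_
    refine Eq.trans ?_ hkl
    refine MonoidHom.ext fun u => ?_
    show g.1 (conjHom hS.kernel l (conjHom hS.kernel (l⁻¹ * k) u)) = g.1 (conjHom hS.kernel k u)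
    rw [← MulAut.mul_apply, ← map_mul, mul_inv_cancel_left]
  have hself : ∀ f : L, Cfsg.classInner (excFun f.1) (excFun f.1) = (e : ℂ) + 1 := by
    intro f
    rw [hinner, Finset.card_eq_one.2 ⟨1, ?_⟩, Nat.cast_one]
    ext k
    simp only [Finset.mem_filter, Finset.mem_univ, true_and, Finset.mem_singleton]
    exact ⟨fun hk => hstab f k 1 (by rw [← hk, htwist1]), fun hk => by rw [hk, htwist1]⟩
  -- the index type
  let ι := {θ : G → ℂ // θ ∈ Finset.univ.image fun f : L => excFun f.1}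
  letI : Fintype ι := FinsetCoe.fintype _
  have hrep : ∀ i : ι, ∃ f : L, excFun f.1 = i.1 := fun i => by
    obtain ⟨f, -, hf⟩ := Finset.mem_image.1 i.2
    exact ⟨f, hf⟩
  choose rep hrepe using hrep
  have hFcard : Fintype.card ι * e = Fintype.card L := by
    rw [Fintype.card_coe, ← Finset.card_univ (α := L),
      Finset.card_eq_sum_card_image (fun f : L => excFun f.1)]
    symm
    refine Finset.sum_const_nat fun θ hθ => ?_
    obtain ⟨g, -, rfl⟩ := Finset.mem_image.1 hθ
    rw [he, Nat.card_eq_fintype_card, ← Finset.card_univ]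
    symm
    refine Finset.card_bij (fun k _ => (⟨twist hS.kernel g.1 k, htw g k⟩ : L)) ?_ ?_ ?_
    · intro k _
      exact Finset.mem_filter.2 ⟨Finset.mem_univ _, hS.excFun_twist g.1 k⟩
    · intro k _ l _ hkl
      exact hstab g k l (congrArg Subtype.val hkl)
    · intro f hf
      have heq := (Finset.mem_filter.1 hf).2
      have h1 := hinner f g
      rw [show excFun f.1 = excFun g.1 from heq, hself] at h1
      have h2 : (Finset.univ.filter fun k : ↥(pair G a b) => f.1 = twist hS.kernel g.1 k).card = 1 := by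
        exact_mod_cast (add_left_cancel h1).symm
      obtain ⟨k, hk⟩ := Finset.card_eq_one.1 h2
      have hk' := (Finset.mem_filter.1 (hk.symm ▸ Finset.mem_singleton_self k :
        k ∈ Finset.univ.filter fun k : ↥(pair G a b) => f.1 = twist hS.kernel g.1 k)).2
      exact ⟨k, Finset.mem_univ _, Subtype.ext hk'.symm⟩
  set F := Fintype.card ι with hFdef
  have hFe : F * e + 1 = (e + 1) ^ (r - 1) := by rw [hFcard, hLcard]
  have hF2 : e + 2 ≤ F := by
    by_contra hlt
    push Not at hlt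
    have h1 : (e + 1) ^ 2 ≤ (e + 1) ^ (r - 1) := Nat.pow_le_pow_right (by omega) (by omega)
    have h2 : F * e ≤ (e + 1) * e := Nat.mul_le_mul_right _ (by omega)
    have h3 : (e + 1) ^ 2 = (e + 1) * e + (e + 1) := by ring
    omega
  have hoff : ∀ i j : ι, i ≠ j → Cfsg.classInner i.1 j.1 = (e : ℂ) := by
    intro i j hij
    rw [← hrepe i, ← hrepe j, hinner]
    have : (Finset.univ.filter fun k : ↥(pair G a b) => (rep i).1 = twist hS.kernel (rep j).1 k) = ∅ := by
      refine Finset.eq_empty_of_forall_notMem fun k hk => hij (Subtype.ext ?_)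
      rw [← hrepe i, ← hrepe j, (Finset.mem_filter.1 hk).2, hS.excFun_twist]
    rw [this]; simp
  have hii : ∀ i : ι, Cfsg.classInner i.1 i.1 = (e : ℂ) + 1 := fun i => by rw [← hrepe i, hself]
  have hgenI : ∀ i : ι, Cfsg.IsGeneralizedCharacter G i.1 := fun i => by
    rw [← hrepe i]
    exact Char.IsGeneralizedCharacter.indFun _
      ⟨_, _, Char.IsIrrCharacter.isCharacter Char.isIrrCharacter_principal,
        Char.IsIrrCharacter.isCharacter (Char.isIrrCharacter_linear (rep i).1), oneSub_eq _⟩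
  have hval1 : ∀ i : ι, i.1 1 = 0 := fun i => by
    rw [← hrepe i]; simp [excFun, oneSub, Char.indFun_apply_one]
  -- the class functions `1`, `π` and the induced principal character of `U`
  set Q : G → ℂ := Cfsg.indFun U (fun _ => (1 : ℂ)) with hQ
  set M : G → ℂ := Cfsg.indFun (stabilizer G a) (fun _ => (1 : ℂ)) with hM
  set O : G → ℂ := fun _ => (1 : ℂ) with hO
  have hQc : Cfsg.IsClassFunction G Q := Char.isClassFunction_indFun _ _
  have hMc : Cfsg.IsClassFunction G M := Char.isClassFunction_indFun _ _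
  have hOc : Cfsg.IsClassFunction G O := fun _ _ => rfl
  have hQg : Cfsg.IsCharacter G Q :=
    Char.IsCharacter.indFun _ (Char.IsIrrCharacter.isCharacter Char.isIrrCharacter_principal)
  have hMg : Cfsg.IsCharacter G M :=
    Char.IsCharacter.indFun _ (Char.IsIrrCharacter.isCharacter Char.isIrrCharacter_principal)
  have hOg : Cfsg.IsCharacter G O := Char.IsIrrCharacter.isCharacter Char.isIrrCharacter_principal
  have hIc : ∀ i : ι, Cfsg.IsClassFunction G i.1 := fun i =>
    Char.IsGeneralizedCharacter.isClassFunction (hgenI i)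
  obtain ⟨Qv, hQv⟩ := int_of_classInner (Char.IsCharacter.isGeneralizedCharacter hQg)
  obtain ⟨Mv, hMv⟩ := int_of_classInner (Char.IsCharacter.isGeneralizedCharacter hMg)
  obtain ⟨Ov, hOv⟩ := int_of_classInner (Char.IsCharacter.isGeneralizedCharacter hOg)
  choose Cv hCv using fun i : ι => int_of_classInner (hgenI i)
  choose Dn hDn using fun χ : Cfsg.IrrCharacter G => Char.IsIrrCharacter.exists_degree χ.2
  let Dv : Cfsg.IrrCharacter G → ℤ := fun χ => (Dn χ : ℤ)
  have hDv : ∀ χ : Cfsg.IrrCharacter G, (χ : G → ℂ) 1 = Dv χ := fun χ => by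
    rw [(hDn χ).2]; simp [Dv]
  -- inner products of the basic functions
  have hUone : ∀ (θ : G → ℂ) (c v : ℕ), θ 1 = (v : ℂ) → (∀ u ∈ U, u ≠ 1 → θ u = (c : ℂ)) →
      Cfsg.IsClassFunction G θ →
      Cfsg.classInner Q θ * (h : ℂ) = (v : ℂ) + ((h : ℂ) - 1) * c := fun θ c v h1 hc hcl => by
    rw [hQ, Char.classInner_indFun U _ θ hcl]
    exact hS.classInner_const_off θ c v h1 hc
  have hh0 : (h : ℂ) ≠ 0 := Nat.cast_ne_zero.2 Nat.card_pos.ne'
  have hQ1 : Q 1 = (((h + 1) * e : ℕ) : ℂ) := by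
    rw [hQ, Char.indFun_apply_one, hS.index_kernel, mul_one]; push_cast; ring
  have hM1 : M 1 = ((h + 1 : ℕ) : ℂ) := by
    rw [hM, Char.indFun_apply_one, hS.index_stab, mul_one]; push_cast; ring
  have hQQ : Cfsg.classInner Q Q = 2 * (e : ℂ) := by
    refine mul_right_cancel₀ hh0 ?_
    rw [hUone Q e _ hQ1 (fun u hu hu1 => hS.indU_kernel hu hu1) hQc]
    push_cast; ring
  have hQM : Cfsg.classInner Q M = 2 := by
    refine mul_right_cancel₀ hh0 ?_
    rw [hUone M 1 _ hM1 (fun u hu hu1 => by rw [hM, hS.indB_kernel hu hu1, Nat.cast_one]) hMc]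
    push_cast; ring
  have hQO : Cfsg.classInner Q O = 1 := by
    rw [hQ, Char.classInner_indFun U _ O hOc]; exact classInner_one_one
  have hMO : Cfsg.classInner M O = 1 := by
    rw [hM, Char.classInner_indFun _ _ O hOc]; exact classInner_one_one
  have hMM : Cfsg.classInner M M = 2 := hS.inner_indB_indB
  have hOO : Cfsg.classInner O O = 1 := classInner_one_one
  have hIO : ∀ i : ι, Cfsg.classInner i.1 O = 1 := fun i => by
    rw [← hrepe i, excFun, Char.classInner_indFun U _ O hOc]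
    exact classInner_oneSub_one (rep i).2.1
  have hIconst : ∀ (i : ι) (θ : G → ℂ) (c : ℕ), Cfsg.IsClassFunction G θ →
      (∀ u ∈ U, u ≠ 1 → θ u = (c : ℂ)) → Cfsg.classInner i.1 θ = c := by
    intro i θ c hcl hc
    rw [← hrepe i, excFun, Char.classInner_indFun U _ θ hcl, Cfsg.classInner,
      Finset.sum_congr rfl (g := fun u : U => oneSub (rep i).1 u * conj ((c : ℂ))) (fun u _ => by
        by_cases hu : u = 1
        · subst hu; simp [oneSub]
        · rw [hc u u.2 fun e0 => hu (Subtype.ext e0)])]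
    have h1 := classInner_oneSub_one (rep i).2.1
    rw [Cfsg.classInner] at h1
    simp only [map_one, mul_one] at h1
    rw [← Finset.sum_mul, ← mul_assoc, h1, Complex.conj_natCast, one_mul]
  have hIQ : ∀ i : ι, Cfsg.classInner i.1 Q = (e : ℂ) := fun i =>
    hIconst i Q e hQc fun u hu hu1 => hS.indU_kernel hu hu1
  have hIM : ∀ i : ι, Cfsg.classInner i.1 M = 1 := fun i => by
    rw [hIconst i M 1 hMc fun u hu hu1 => by rw [hM, hS.indB_kernel hu hu1, Nat.cast_one], Nat.cast_one]
  -- integral dot products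
  have qq : Qv ⬝ᵥ Qv = 2 * (e : ℤ) := by exact_mod_cast (dot_eq_classInner hQc hQc hQv hQv).trans hQQ
  have qm : Qv ⬝ᵥ Mv = 2 := by exact_mod_cast (dot_eq_classInner hQc hMc hQv hMv).trans hQM
  have qo : Qv ⬝ᵥ Ov = 1 := by exact_mod_cast (dot_eq_classInner hQc hOc hQv hOv).trans hQO
  have mm : Mv ⬝ᵥ Mv = 2 := by exact_mod_cast (dot_eq_classInner hMc hMc hMv hMv).trans hMM
  have mo : Mv ⬝ᵥ Ov = 1 := by exact_mod_cast (dot_eq_classInner hMc hOc hMv hOv).trans hMO
  have oo : Ov ⬝ᵥ Ov = 1 := by exact_mod_cast (dot_eq_classInner hOc hOc hOv hOv).trans hOO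
  have cq : ∀ i, Cv i ⬝ᵥ Qv = (e : ℤ) := fun i => by
    exact_mod_cast (dot_eq_classInner (hIc i) hQc (hCv i) hQv).trans (hIQ i)
  have cm : ∀ i, Cv i ⬝ᵥ Mv = 1 := fun i => by
    exact_mod_cast (dot_eq_classInner (hIc i) hMc (hCv i) hMv).trans (hIM i)
  have co : ∀ i, Cv i ⬝ᵥ Ov = 1 := fun i => by
    exact_mod_cast (dot_eq_classInner (hIc i) hOc (hCv i) hOv).trans (hIO i)
  have cc : ∀ i, Cv i ⬝ᵥ Cv i = (e : ℤ) + 1 := fun i => by
    exact_mod_cast (dot_eq_classInner (hIc i) (hIc i) (hCv i) (hCv i)).trans (hii i)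
  have cc' : ∀ i j, i ≠ j → Cv i ⬝ᵥ Cv j = (e : ℤ) := fun i j hij => by
    exact_mod_cast (dot_eq_classInner (hIc i) (hIc j) (hCv i) (hCv j)).trans (hoff i j hij)
  have dq : Qv ⬝ᵥ Dv = ((h + 1) * e : ℕ) := by exact_mod_cast (dot_deg hQc hQv hDv).trans hQ1
  have dm : Mv ⬝ᵥ Dv = (h + 1 : ℕ) := by exact_mod_cast (dot_deg hMc hMv hDv).trans hM1
  have dO : Ov ⬝ᵥ Dv = 1 := by exact_mod_cast (dot_deg hOc hOv hDv).trans (show O 1 = (1 : ℂ) from rfl)
  have dc : ∀ i, Cv i ⬝ᵥ Dv = 0 := fun i => by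
    exact_mod_cast (dot_deg (hIc i) (hCv i) hDv).trans (hval1 i)
  have dd : Dv ⬝ᵥ Dv = ((h + 1) * h * e : ℕ) := by
    have h1 := Char.sum_apply_one_sq (G := G)
    simp only [hDv, sq] at h1
    rw [hS.card_group] at h1
    rw [dotProduct]
    exact_mod_cast h1
  -- halving
  have hhalf : ∀ χ : Cfsg.IrrCharacter G, ∃ p : ℤ, 2 * p = Qv χ - Mv χ := by
    intro χ
    have hχ := Char.IsIrrCharacter.isClassFunction χ.2
    have hres1 := Char.IsCharacter.restrict (Char.IsIrrCharacter.isCharacter χ.2) U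
    have hres2 := Char.IsCharacter.restrict (Char.IsIrrCharacter.isCharacter χ.2) (stabilizer G a)
    obtain ⟨q, hq⟩ := Char.IsCharacter.exists_nat_classInner'
      (Char.IsIrrCharacter.isCharacter (Char.isIrrCharacter_principal (G := U))) hres1
    obtain ⟨m, hm⟩ := Char.IsCharacter.exists_nat_classInner'
      (Char.IsIrrCharacter.isCharacter (Char.isIrrCharacter_principal (G := stabilizer G a))) hres2
    obtain ⟨p, hp⟩ := hS.exists_half χ.2 hq hm
    have e1 : Qv χ = q := by
      have := hQv χ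
      rw [hQ, Char.classInner_indFun U _ _ hχ, hq] at this
      exact_mod_cast this.symm
    have e2 : Mv χ = m := by
      have := hMv χ
      rw [hM, Char.classInner_indFun _ _ _ hχ, hm] at this
      exact_mod_cast this.symm
    exact ⟨p, by rw [hp, e1, e2]⟩
  choose pv hpv using hhalf
  have hp2 : (2 : ℤ) • pv = Qv - Mv := funext fun χ => by
    simp [hpv]
  let sv := Mv - Ov
  let cv : ι → Cfsg.IrrCharacter G → ℤ := fun i => Cv i - Ov - pv
  have hp : ∀ w : Cfsg.IrrCharacter G → ℤ, 2 * (pv ⬝ᵥ w) = Qv ⬝ᵥ w - Mv ⬝ᵥ w := fun w => by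
    rw [← sub_dotProduct, ← hp2, smul_dotProduct, smul_eq_mul]
  -- the exceptional characters
  obtain ⟨i₀⟩ : Nonempty ι := Fintype.card_pos_iff.1 (by omega)
  obtain ⟨ε, hε, μ₀, hμirr, hμinj, hμ⟩ := CharExc.exists_base i₀ (fun i : ι => i.1 - i₀.1)
    (sub_self _) (fun i => Char.IsGeneralizedCharacter.sub (hgenI i) (hgenI i₀))
    (fun i => by simp [hval1])
    (fun i hi => by
      rw [Char.classInner_sub_left, Char.classInner_sub_right, Char.classInner_sub_right, hii, hii,
        hoff i i₀ hi, hoff i₀ i (Ne.symm hi)]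
      ring)
    (fun i j hi hj hij => by
      rw [Char.classInner_sub_left, Char.classInner_sub_right, Char.classInner_sub_right,
        hoff i j hij, hoff i i₀ hi, hoff i₀ j (Ne.symm hj), hii]
      ring)
  let μ : ι → Cfsg.IrrCharacter G := fun i => ⟨μ₀ i, hμirr i⟩
  have hμi : Function.Injective μ := fun i j e0 => hμinj (congrArg Subtype.val e0)
  obtain ⟨εz, hεz, hεc⟩ : ∃ εz : ℤ, (εz = 1 ∨ εz = -1) ∧ (εz : ℂ) = ε := by
    rcases hε with rfl | rfl
    · exact ⟨1, Or.inl rfl, by simp⟩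
    · exact ⟨-1, Or.inr rfl, by simp⟩
  have hdiff0 : ∀ i j, Cv i j - Cv i₀ j =
      εz * ((if μ i = j then 1 else 0) - (if μ i₀ = j then 1 else 0)) := by
    intro i j
    have h1 := congrArg (fun θ => Cfsg.classInner θ (j : G → ℂ)) (hμ i)
    simp only [Char.classInner_sub_left, Char.classInner_smul_left, hCv] at h1
    rw [show μ₀ i = (μ i : G → ℂ) from rfl, show μ₀ i₀ = (μ i₀ : G → ℂ) from rfl,
      Char.classInner_irrCharacter, Char.classInner_irrCharacter, ← hεc] at h1
    exact_mod_cast h1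
  obtain ⟨d, hd0, hdeg, -, hbound⟩ := coherent_core Ov sv pv Dv cv μ hμi εz hεz e h F
    (by exact_mod_cast he3) (by positivity) rfl (by exact_mod_cast hF2)
    (fun χ => by
      show (0 : ℤ) < (Dn χ : ℤ)
      exact_mod_cast (hDn χ).1)
    oo
    (by simp only [sv, sub_dotProduct, dotProduct_sub, dotProduct_comm Ov Mv, mm, mo, oo]; norm_num)
    (by
      have h1 := hp pv
      rw [dotProduct_comm Qv pv, dotProduct_comm Mv pv] at h1
      have h2 := hp Qv
      have h3 := hp Mv
      rw [qq, dotProduct_comm Mv Qv, qm] at h2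
      rw [qm, mm] at h3
      linarith)
    (by simp only [sv, dotProduct_sub, dotProduct_comm Ov Mv, mo, oo]; norm_num)
    (by
      have h1 := hp Ov
      rw [qo, mo, dotProduct_comm pv Ov] at h1
      linarith)
    (by
      have h1 := hp sv
      simp only [sv, dotProduct_sub, qm, qo, mm, mo] at h1
      rw [dotProduct_comm sv pv]
      simp only [sv, dotProduct_sub]
      linarith)
    (fun i => by
      have h1 := hp Ov
      rw [qo, mo] at h1
      simp only [cv, sub_dotProduct, co, oo]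
      linarith)
    (fun i => by
      have h1 := hp Mv
      have h2 := hp Ov
      rw [qm, mm] at h1
      rw [qo, mo] at h2
      simp only [cv, sv, sub_dotProduct, dotProduct_sub, co, cm, oo, dotProduct_comm Ov Mv, mo]
      linarith)
    (fun i => by
      have h1 := hp Qv
      have h2 := hp Mv
      have h3 := hp pv
      have h4 := hp Ov
      have h5 := hp (Cv i)
      rw [qq, dotProduct_comm Mv Qv, qm] at h1
      rw [qm, mm] at h2
      rw [qo, mo] at h4
      rw [dotProduct_comm Qv pv, dotProduct_comm Mv pv] at h3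
      rw [dotProduct_comm Qv (Cv i), cq, dotProduct_comm Mv (Cv i), cm] at h5
      simp only [cv, sub_dotProduct, dotProduct_comm (Cv i) pv, dotProduct_comm Ov pv]
      linarith)
    (fun i => by
      have h1 := hp Qv
      have h2 := hp Mv
      have h3 := hp pv
      have h4 := hp Ov
      have h5 := hp (Cv i)
      rw [qq, dotProduct_comm Mv Qv, qm] at h1
      rw [qm, mm] at h2
      rw [qo, mo] at h4
      rw [dotProduct_comm Qv pv, dotProduct_comm Mv pv] at h3
      rw [dotProduct_comm Qv (Cv i), cq, dotProduct_comm Mv (Cv i), cm] at h5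
      simp only [cv, sub_dotProduct, dotProduct_sub, dotProduct_comm (Cv i) pv, dotProduct_comm Ov pv,
        dotProduct_comm Ov (Cv i), cc, co, oo]
      linarith)
    (fun i j hij => by
      have h1 := hp Qv
      have h2 := hp Mv
      have h3 := hp pv
      have h4 := hp Ov
      have h5 := hp (Cv i)
      have h6 := hp (Cv j)
      rw [qq, dotProduct_comm Mv Qv, qm] at h1
      rw [qm, mm] at h2
      rw [qo, mo] at h4
      rw [dotProduct_comm Qv pv, dotProduct_comm Mv pv] at h3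
      rw [dotProduct_comm Qv (Cv i), cq, dotProduct_comm Mv (Cv i), cm] at h5
      rw [dotProduct_comm Qv (Cv j), cq, dotProduct_comm Mv (Cv j), cm] at h6
      simp only [cv, sub_dotProduct, dotProduct_sub, dotProduct_comm (Cv i) pv, dotProduct_comm Ov pv,
        dotProduct_comm Ov (Cv j), cc' i j hij, co, oo]
      linarith)
    (fun i j χ => by
      simp only [cv, Pi.sub_apply]
      linear_combination hdiff0 i χ - hdiff0 j χ)
    dO
    (by simp only [sv, sub_dotProduct, dm, dO]; push_cast; ring)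
    (by rw [hp, dq, dm]; push_cast; ring)
    (fun i => by
      have h1 := hp Dv
      rw [dq, dm] at h1
      push_cast at h1
      simp only [cv, sub_dotProduct, dc, dO]
      linarith)
    (by rw [dd]; push_cast; ring)
  obtain ⟨dn, rfl⟩ := Int.eq_ofNat_of_zero_le hd0.le
  have hdn : ∀ i, (μ i : G → ℂ) 1 = (dn : ℂ) := fun i => by rw [hDv, hdeg]; simp
  -- equal values away from the kernel
  have hvals : ∀ g : G, (∀ x : G, x⁻¹ * g * x ∉ U) → ∀ i, (μ i : G → ℂ) g = (μ i₀ : G → ℂ) g := by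
    intro g hg i
    have h0 : ∀ j : ι, j.1 g = 0 := fun j => by
      rw [← hrepe j]; exact Char.indFun_eq_zero_of_forall_notMem _ _ g hg
    have h1 := congrFun (hμ i) g
    simp only [Pi.sub_apply, h0, sub_zero, Pi.smul_apply, smul_eq_mul] at h1
    have hε0 : ε ≠ 0 := by rcases hε with rfl | rfl <;> norm_num
    exact sub_eq_zero.1 ((mul_eq_zero.1 h1.symm).resolve_left hε0)
  have key : ∀ (A : Subgroup G) [Fintype A] (M : ℕ), (∀ x y : A, x * y = y * x) →
      (∀ g ∈ A, g ≠ 1 → ∀ x : G, x⁻¹ * g * x ∉ U) →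
      (∀ g ∈ A, g ≠ 1 → ∀ x₀ : G,
        Nat.card {x : G // ∃ g' ∈ A, g' ≠ 1 ∧ x * g' * x⁻¹ = x₀ * g * x₀⁻¹} ≤ M) →
      Nat.card A ∣ dn ∨ F * (Nat.card A - 1) ≤ M := by
    intro A _ M hA hne hM'
    refine or_iff_not_imp_left.2 fun hdvd => ?_
    have h1 := le_sum_normSq hA (Char.IsIrrCharacter.isCharacter (μ i₀).2) (hdn i₀) hdvd
    have h2 := sum_normSq_le μ hμi (μ i₀ : G → ℂ) (fun i g hg hg1 => hvals g (hne g hg hg1) i) M hM'
    have h3 : (F : ℝ) * ((Nat.card A : ℝ) - 1) ≤ M :=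
      le_trans (mul_le_mul_of_nonneg_left h1 (Nat.cast_nonneg _)) h2
    rw [show ((Nat.card A : ℝ) - 1) = ((Nat.card A - 1 : ℕ) : ℝ) by
      rw [Nat.cast_sub Nat.card_pos]; simp] at h3
    exact_mod_cast h3
  -- the common conjugator set of two elements
  have hfib : ∀ (A N : Subgroup G), (∀ z ∈ A, z ≠ 1 → ∀ y : G, y * z * y⁻¹ ∈ A → y ∈ N) →
      ∀ g ∈ A, g ≠ 1 → ∀ x₀ : G,
        Nat.card {x : G // ∃ g' ∈ A, g' ≠ 1 ∧ x * g' * x⁻¹ = x₀ * g * x₀⁻¹} ≤ Nat.card N := by
    intro A N hTI g hg hg1 x₀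
    refine Nat.card_le_card_of_injective (fun x => ⟨x₀⁻¹ * x.1, ?_⟩)
      (fun x y e0 => Subtype.ext (mul_left_cancel (congrArg Subtype.val e0)))
    obtain ⟨g', hg', hg'1, he'⟩ := x.2
    refine hTI g' hg' hg'1 _ ?_
    have : x₀⁻¹ * x.1 * g' * (x₀⁻¹ * x.1)⁻¹ = g := by
      calc x₀⁻¹ * x.1 * g' * (x₀⁻¹ * x.1)⁻¹ = x₀⁻¹ * (x.1 * g' * (x.1)⁻¹) * x₀ := by group
        _ = g := by rw [he']; group
    rwa [this]
  refine ⟨F, dn, hFe, by exact_mod_cast hd0, ?_, by exact_mod_cast hbound, ?_⟩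
  · -- `e` divides the degree
    haveI := hS.cyclic
    letI := IsCyclic.commGroup (α := ↥(pair G a b))
    obtain ⟨v, -, -, va, vb⟩ :=
      hS.oddInv.pre.exists_swap (hS.oddInv.pre.two_dvd_card hS.ne) hS.ne
    refine (key (pair G a b) (2 * e) (fun x y => mul_comm x y) (fun g hg hg1 => ?_) ?_).resolve_right ?_
    · refine hS.not_conj_kernel (fun c hc => ?_) hg1
      rcases hS.oddInv.pre.eq_or_eq hg1 hS.ne hg.1 hg.2 hc with rfl | rfl
      · exact ⟨b, hS.ne.symm, hg.2⟩
      · exact ⟨a, hS.ne, hg.1⟩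
    · intro g hg hg1 x₀
      have hsub : ∀ z ∈ pair G a b, z ≠ 1 → ∀ y : G, y * z * y⁻¹ ∈ pair G a b →
          y ∈ pair G a b ∨ v⁻¹ * y ∈ pair G a b := by
        intro z hz hz1 y hy
        have hperm : ∀ c : Ω, (y * z * y⁻¹) • c = c → y⁻¹ • c = a ∨ y⁻¹ • c = b := fun c hc =>
          hS.oddInv.pre.eq_or_eq hz1 hS.ne hz.1 hz.2 (by
            rw [eq_inv_smul_iff]
            simpa [mul_smul] using hc)
        rcases hperm a hy.1 with h1 | h1 <;> rcases hperm b hy.2 with h2 | h2
        · exact absurd (MulAction.injective y⁻¹ (h1.trans h2.symm)) hS.ne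
        · exact Or.inl ⟨(inv_smul_eq_iff.1 h1).symm, (inv_smul_eq_iff.1 h2).symm⟩
        · refine Or.inr ⟨?_, ?_⟩
          · show (v⁻¹ * y) • a = a
            rw [mul_smul, ← inv_smul_eq_iff.1 h2, inv_smul_eq_iff, va]
          · show (v⁻¹ * y) • b = b
            rw [mul_smul, ← inv_smul_eq_iff.1 h1, inv_smul_eq_iff, vb]
        · exact absurd (MulAction.injective y⁻¹ (h1.trans h2.symm)) hS.ne
      refine le_trans (Nat.card_le_card_of_injective
        (fun x : {x : G // ∃ g' ∈ pair G a b, g' ≠ 1 ∧ x * g' * x⁻¹ = x₀ * g * x₀⁻¹} =>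
          if hx : x₀⁻¹ * x.1 ∈ pair G a b then (Sum.inl ⟨_, hx⟩ : ↥(pair G a b) ⊕ ↥(pair G a b))
          else Sum.inr ⟨v⁻¹ * (x₀⁻¹ * x.1), ?_⟩) ?_) ?_
      · obtain ⟨g', hg', hg'1, he'⟩ := x.2
        refine (hsub g' hg' hg'1 _ ?_).resolve_left hx
        have : x₀⁻¹ * x.1 * g' * (x₀⁻¹ * x.1)⁻¹ = g := by
          calc x₀⁻¹ * x.1 * g' * (x₀⁻¹ * x.1)⁻¹ = x₀⁻¹ * (x.1 * g' * (x.1)⁻¹) * x₀ := by group
            _ = g := by rw [he']; group
        rwa [this]
      · intro x y hxy
        simp only at hxy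
        by_cases hx : x₀⁻¹ * x.1 ∈ pair G a b <;> by_cases hy : x₀⁻¹ * y.1 ∈ pair G a b <;>
          simp only [hx, hy, dif_pos, dif_neg, not_false_eq_true, Sum.inl.injEq, Sum.inr.injEq,
            reduceCtorEq, Subtype.mk.injEq] at hxy
        · exact Subtype.ext (mul_left_cancel hxy)
        · exact Subtype.ext (mul_left_cancel (mul_left_cancel hxy))
      · rw [Nat.card_sum, ← he]; omega
    · intro hle
      rw [← he] at hle
      have h4 : (e + 2) * (e - 1) ≤ F * (e - 1) := Nat.mul_le_mul_right _ hF2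
      have h5 : 5 * (e - 1) ≤ (e + 2) * (e - 1) := Nat.mul_le_mul_right _ (by omega)
      omega
  · intro A hA w hw
    haveI := Fintype.ofFinite A
    rw [← hw]
    exact key A (Nat.card (Subgroup.normalizer (A : Set G)))
      (fun x y => Subtype.ext (hS.torus_comm hA x.2 y.2))
      (fun g hg hg1 => hS.not_conj_kernel
        (fun c hc => absurd hc (hS.torus_semiregular hA hg hg1 c)) hg1)
      (hfib A _ fun z hz hz1 y hy => hS.mem_normalizer_of_conj hA hz hz1 hy)

end Setting

end CfsgLib.ZT
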