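import Cfsg.Agent.Lib.ZT.Families
import Cfsg.Agent.Lib.ZT.Coherent
import Cfsg.Agent.Lib.Zass.Simple

/-!
# The order of a Zassenhaus group with nonabelian 2-kernels
-/

set_option autoImplicit false
set_option linter.style.haveILetI false

open MulAction

namespace CfsgLib.ZT

open CfsgLib.Zass CfsgLib.SuzukiTwo

universe u

variable {G : Type u} {Ω : Type*} [Group G] [MulAction G Ω] [Fintype Ω]

/-- A regular subgroup of the point stabiliser normalised by it is the kernel. -/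
theorem isKernel_of_regular (hP : Pre G Ω) {a b : Ω} (hab : a ≠ b) {U : Subgroup G}
    (hle : U ≤ stabilizer G a)
    (hreg : ∀ y z : Ω, y ≠ a → z ≠ a → ∃! u : U, (u : G) • y = z) : Pre.IsKernel a U := by
  obtain ⟨K, hK⟩ := hP.exists_kernel a
  suffices U = K from this ▸ hK
  have hUK : U ≤ K := by
    intro u hu
    by_cases hu1 : u = 1
    · rw [hu1]; exact K.one_mem
    refine hK.mem u (hle hu) fun c hc => by_contra fun hca => hu1 ?_
    exact congrArg Subtype.val ((hreg c c hca hca).unique (y₁ := ⟨u, hu⟩) (y₂ := 1) hc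
      (by rw [OneMemClass.coe_one, one_smul]))
  refine le_antisymm hUK fun k hk => ?_
  have hkb : k • b ≠ a := fun h => hab.symm (MulAction.injective k (h.trans (hK.le k hk).symm))
  obtain ⟨⟨u, hu⟩, hub, -⟩ := hreg b (k • b) hab.symm hkb
  rwa [← hK.inj hab.symm (hUK hu) hk hub]

theorem Setting.of_simple (hZ : Cfsg.IsZassenhausGroup G Ω) [IsSimpleGroup G] {a b : Ω}
    (hab : a ≠ b) {U : Subgroup G} (hle : U ≤ stabilizer G a) (h2 : IsPGroup 2 U)
    (hna : ∃ u ∈ U, ∃ v ∈ U, u * v ≠ v * u)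
    (hreg : ∀ y z : Ω, y ≠ a → z ≠ a → ∃! u : U, (u : G) • y = z) : Setting G a b U := by
  have hP := Pre.of hZ
  haveI := hP.finite_group
  haveI : Fact (Nat.Prime 2) := ⟨Nat.prime_two⟩
  have hK := isKernel_of_regular hP hab hle hreg
  have hodd : Odd (Nat.card ↥(stabilizer G a ⊓ stabilizer G b)) := by
    refine Odd.of_dvd_nat ?_ (hP.card_dvd_sub_two hab)
    have hc := hK.card hP
    obtain ⟨u, hu, v, hv, hne⟩ := hna
    obtain ⟨n, hn⟩ := IsPGroup.iff_card.1 h2
    have hn0 : n ≠ 0 := fun h0 => hne (by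
      rw [h0, pow_zero] at hn
      haveI := (Nat.card_eq_one_iff_unique.1 hn).1
      rw [show u = v from congrArg Subtype.val (Subsingleton.elim (⟨u, hu⟩ : U) ⟨v, hv⟩)])
    obtain ⟨m, rfl⟩ : ∃ m, n = m + 1 := ⟨n - 1, by omega⟩
    rw [← hc, hn, pow_succ]
    have := Nat.one_le_two_pow (n := m)
    exact ⟨2 ^ m - 1, by omega⟩
  exact ⟨OddInv.of_simple hZ hab hodd, hab, hK, h2, hna, (Pre.two_point_cyclic hZ hab).1⟩

/-- Suzuki's order theorem: the kernels have order `q ^ 2` with `q` an odd power of two and the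
two-point stabilisers have order `q - 1`. -/
theorem Setting.order {a b : Ω} {U : Subgroup G} (hS : Setting G a b U) :
    ∃ f : ℕ, Odd f ∧ 3 ≤ f ∧ Nat.card ↥(pair G a b) + 1 = 2 ^ f ∧ Nat.card U = (2 ^ f) ^ 2 := by
  classical
  haveI := hS.finite_group
  haveI := Fintype.ofFinite G
  obtain ⟨f, r, hf, hr, hq, hh⟩ := hS.exists_params
  obtain ⟨S, w, hT, hcop, htor, h8⟩ := hS.exists_torusData
  have hq4 : 4 ≤ 2 ^ f := by
    calc 4 = 2 ^ 2 := by norm_num
      _ ≤ 2 ^ f := Nat.pow_le_pow_right (by norm_num) hf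
  have hr2 : r = 2 := by
    by_contra hne
    have hr3 : 3 ≤ r := by omega
    obtain ⟨F, d, hF, hd, hed, hbound, hall⟩ := hS.exists_exceptional hr3 (by rw [hq, hh])
    refine (hq ▸ hT).not_three (r := r) (F := F) (d := d) rfl hq4 hr3 hh hq ?_ hd hed hcop ?_ hbound
    · rw [hF, hq]
    · intro x hx
      obtain ⟨A, hA, rfl, hAn⟩ := htor x hx
      exact hall A hA _ hAn
  subst hr2
  have hodd : Odd f := (hq ▸ hT).odd_exponent rfl hq4 (by rw [hh, sq]) hq
    (h8 (by rw [hq, hh]))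
  refine ⟨f, hodd, ?_, hq, hh⟩
  obtain ⟨j, rfl⟩ := hodd
  omega

end CfsgLib.ZT
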