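import Mathlib

/-!
# Arithmetic of the families of real tori in a Zassenhaus group with nonabelian 2-kernel
-/

set_option autoImplicit false

namespace CfsgLib.ZT

/-- Vieta descent. -/
theorem descent : ∀ (N a b k : ℕ), a + b ≤ N → Odd a → Odd b →
    a * a + b * b + 8 = k * (a * b) + 4 * a + 4 * b → k = 2 := by
  intro N
  induction N with
  | zero => intro a b k h ha; obtain ⟨i, hi⟩ := ha; omega
  | succ N ih =>
    intro a b k h ha hb he
    rcases lt_trichotomy a b with hab | rfl | hab
    · obtain ⟨i, rfl⟩ := ha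
      obtain ⟨j, rfl⟩ := hb
      set a := 2 * i + 1 with hadef
      set b := 2 * j + 1 with hbdef
      have h2 : a + 2 ≤ b := by omega
      have hbz : (b : ℤ) * ((k : ℤ) * a + 4 - b) = (a : ℤ) * a - 4 * a + 8 := by
        zify at he
        linear_combination -he
      have hsq : (a + 2 : ℤ) * (a + 2) ≤ (b : ℤ) * b := by
        have : (a + 2 : ℤ) ≤ b := by exact_mod_cast h2
        exact mul_self_le_mul_self (by positivity) this
      have hpos : (0 : ℤ) < (k : ℤ) * a + 4 - b := by
        by_contra hneg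
        push Not at hneg
        have := mul_nonpos_of_nonneg_of_nonpos (show (0 : ℤ) ≤ b by positivity) hneg
        nlinarith [mul_self_nonneg ((a : ℤ) - 2)]
      have hlt : (k : ℤ) * a + 4 - b < b := by
        by_contra hge
        push Not at hge
        have := mul_le_mul_of_nonneg_left hge (show (0 : ℤ) ≤ b by positivity)
        have : (0 : ℤ) < a := by positivity
        nlinarith
      obtain ⟨c, hc⟩ := Int.eq_ofNat_of_zero_le hpos.le
      rw [hc] at hbz hlt
      have hb' : b + c = k * a + 4 := by zify; linear_combination hc.symm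
      have he' : a * a + c * c + 8 = k * (a * c) + 4 * a + 4 * c := by
        zify at hb' ⊢
        linear_combination -hbz + (c : ℤ) * hb'
      have hodd : Odd c := by
        have : Odd ((b : ℤ) * c) := by
          rw [hbz, hadef]; push_cast
          exact ⟨2 * (i : ℤ) * i - 2 * i + 2, by ring⟩
        exact (Int.odd_coe_nat c).1 (Int.odd_mul.1 this).2
      exact ih a c k (by omega) ⟨i, hadef⟩ hodd he'
    · -- equal arguments
      have hdvd : a ∣ 8 := by
        refine ⟨k * a + 8 - 2 * a, ?_⟩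
        have h1 : a * (2 * a) + 8 = a * (k * a + 8) := by linear_combination he
        rw [Nat.mul_sub]
        omega
      have : a ≤ 8 := Nat.le_of_dvd (by norm_num) hdvd
      have : a = 1 := by
        obtain ⟨i, hi⟩ := ha
        interval_cases a <;> omega
      subst this
      omega
    · obtain ⟨i, rfl⟩ := ha
      obtain ⟨j, rfl⟩ := hb
      set a := 2 * i + 1 with hadef
      set b := 2 * j + 1 with hbdef
      have h2 : b + 2 ≤ a := by omega
      have hbz : (a : ℤ) * ((k : ℤ) * b + 4 - a) = (b : ℤ) * b - 4 * b + 8 := by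
        zify at he
        linear_combination -he
      have hsq : (b + 2 : ℤ) * (b + 2) ≤ (a : ℤ) * a := by
        have : (b + 2 : ℤ) ≤ a := by exact_mod_cast h2
        exact mul_self_le_mul_self (by positivity) this
      have hpos : (0 : ℤ) < (k : ℤ) * b + 4 - a := by
        by_contra hneg
        push Not at hneg
        have := mul_nonpos_of_nonneg_of_nonpos (show (0 : ℤ) ≤ a by positivity) hneg
        nlinarith [mul_self_nonneg ((b : ℤ) - 2)]
      have hlt : (k : ℤ) * b + 4 - a < a := by
        by_contra hge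
        push Not at hge
        have := mul_le_mul_of_nonneg_left hge (show (0 : ℤ) ≤ a by positivity)
        have : (0 : ℤ) < b := by positivity
        nlinarith
      obtain ⟨c, hc⟩ := Int.eq_ofNat_of_zero_le hpos.le
      rw [hc] at hbz hlt
      have hb' : a + c = k * b + 4 := by zify; linear_combination hc.symm
      have he' : b * b + c * c + 8 = k * (b * c) + 4 * b + 4 * c := by
        zify at hb' ⊢
        linear_combination -hbz + (c : ℤ) * hb'
      have hodd : Odd c := by
        have : Odd ((a : ℤ) * c) := by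
          rw [hbz, hbdef]; push_cast
          exact ⟨2 * (j : ℤ) * j - 2 * j + 2, by ring⟩
        exact (Int.odd_coe_nat c).1 (Int.odd_mul.1 this).2
      exact ih b c k (by omega) ⟨j, hbdef⟩ hodd he'

/-- The numerical data of the families of real tori: `S` lists their orders, `w` their indices
in the normalisers. -/
structure TorusData (q h e : ℕ) (S : Finset ℕ) (w : ℕ → ℕ) : Prop where
  three_le : ∀ a ∈ S, 3 ≤ a
  odd : ∀ a ∈ S, Odd a
  dvd : ∀ a ∈ S, a ∣ h + 1
  w_mem : ∀ a ∈ S, w a = 2 ∨ w a = 4 ∨ w a = 8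
  w_dvd : ∀ a ∈ S, w a ∣ a - 1
  coprime : ∀ a ∈ S, ∀ b ∈ S, a ≠ b → Nat.Coprime a b
  total : 2 * ∑ a ∈ S, (a - 1) / w a = q
  bound : ∑ a ∈ S, (((a - 1) / w a : ℕ) : ℚ) / a ≤
    ((h + 1 : ℚ) * ((e : ℚ) - 1) + 2) / (2 * ((h + 1 : ℚ) * e))

variable {q h e : ℕ} {S : Finset ℕ} {w : ℕ → ℕ}

theorem TorusData.mul_div (hT : TorusData q h e S w) {a : ℕ} (ha : a ∈ S) :
    w a * ((a - 1) / w a) = a - 1 := Nat.mul_div_cancel' (hT.w_dvd a ha)

theorem TorusData.lt_half (hT : TorusData q h e S w) (he : 2 ≤ e) (hh : 2 ≤ h) {T : Finset ℕ}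
    (hTS : T ⊆ S) : ∑ a ∈ T, (((a - 1) / w a : ℕ) : ℚ) / a < 1 / 2 := by
  refine lt_of_le_of_lt ((Finset.sum_le_sum_of_subset_of_nonneg hTS fun _ _ _ => by positivity).trans
    hT.bound) ?_
  have : (2 : ℚ) ≤ e := by exact_mod_cast he
  have : (2 : ℚ) ≤ h := by exact_mod_cast hh
  rw [div_lt_div_iff₀ (by positivity) (by norm_num)]
  nlinarith

theorem TorusData.ratio_four (hT : TorusData q h e S w) {a : ℕ} (ha : a ∈ S) (hw : w a = 4) :
    (1 : ℚ) / 5 ≤ (((a - 1) / w a : ℕ) : ℚ) / a := by
  have h1 := hT.mul_div ha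
  have h3 := hT.three_le a ha
  set t := (a - 1) / w a
  rw [hw] at h1
  rw [div_le_div_iff₀ (by norm_num) (by positivity)]
  have : a ≤ t * 5 := by omega
  exact_mod_cast (show 1 * a ≤ t * 5 by omega)

theorem TorusData.ratio_two (hT : TorusData q h e S w) {a : ℕ} (ha : a ∈ S) (hw : w a = 2) :
    (1 : ℚ) / 3 ≤ (((a - 1) / w a : ℕ) : ℚ) / a := by
  have h1 := hT.mul_div ha
  have h3 := hT.three_le a ha
  set t := (a - 1) / w a
  rw [hw] at h1
  rw [div_le_div_iff₀ (by norm_num) (by positivity)]
  exact_mod_cast (show 1 * a ≤ t * 3 by omega)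

/-- The case `h = q ^ 2`: the exponent is odd. -/
theorem TorusData.odd_exponent {f : ℕ} (hT : TorusData q h e S w) (hq : q = 2 ^ f) (hq4 : 4 ≤ q)
    (hh : h = q * q) (he : e + 1 = q) (hw8 : ∀ a ∈ S, w a ≠ 8) : Odd f := by
  have he2 : 2 ≤ e := by omega
  have hh2 : 2 ≤ h := by rw [hh]; nlinarith
  have hlt := fun T hTS => hT.lt_half he2 hh2 (T := T) hTS
  have hw : ∀ a ∈ S, w a = 4 := by
    intro a ha
    rcases hT.w_mem a ha with h2 | h4 | h8
    · exfalso
      by_cases hS : ∃ b ∈ S, b ≠ a
      · obtain ⟨b, hb, hba⟩ := hS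
        have h1 := hlt {a, b} (by simp [Finset.insert_subset_iff, ha, hb])
        rw [Finset.sum_pair (Ne.symm hba)] at h1
        have r1 := hT.ratio_two ha h2
        rcases hT.w_mem b hb with hb2 | hb4 | hb8
        · have := hT.ratio_two hb hb2; linarith
        · have := hT.ratio_four hb hb4; linarith
        · exact hw8 b hb hb8
      · push Not at hS
        have hSe : S = {a} := Finset.eq_singleton_iff_unique_mem.2 ⟨ha, hS⟩
        have h1 := hT.total
        have h1' := hT.mul_div ha
        rw [hSe, Finset.sum_singleton] at h1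
        rw [h2] at h1 h1'
        have h3 := hT.three_le a ha
        have haq : a = q + 1 := by omega
        have hd : a ∣ q * q + 1 := hh ▸ hT.dvd a ha
        have hd2 : a ∣ q * q + q := ⟨q, by rw [haq]; ring⟩
        have : a ∣ (q * q + q) + 2 - (q + 1) := by
          rw [show (q * q + q) + 2 - (q + 1) = q * q + 1 by omega]; exact hd
        have hd3 : a ∣ 2 := by
          have hd4 : a ∣ (q * q + 1) + (q + 1) := hd.add (by rw [haq])
          rw [show q * q + 1 + (q + 1) = q * q + q + 2 by ring] at hd4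
          exact (Nat.dvd_add_right hd2).1 hd4
        have := Nat.le_of_dvd (by norm_num) hd3
        omega
    · exact h4
    · exact absurd h8 (hw8 a ha)
  have hcard : S.card ≤ 2 := by
    by_contra hgt
    push Not at hgt
    obtain ⟨T, hTS, hT3⟩ := Finset.exists_subset_card_eq (show 3 ≤ S.card from hgt)
    have h1 := hlt T hTS
    have h2 := Finset.card_nsmul_le_sum T _ ((1 : ℚ) / 5)
      (fun a ha => hT.ratio_four (hTS ha) (hw a (hTS ha)))
    rw [hT3] at h2
    norm_num at h1 h2
    linarith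
  have htot := hT.total
  interval_cases hn : S.card
  · rw [Finset.card_eq_zero.1 hn] at htot
    simp at htot
    omega
  · obtain ⟨a, rfl⟩ := Finset.card_eq_one.1 hn
    have ha := Finset.mem_singleton_self a
    have h1 := hT.mul_div ha
    rw [Finset.sum_singleton] at htot
    rw [hw a ha] at h1 htot
    have haq : a = 2 * q + 1 := by have := hT.three_le a ha; omega
    have hd : a ∣ q * q + 1 := hh ▸ hT.dvd a ha
    exfalso
    obtain ⟨k, hk⟩ := hd
    rw [haq] at hk
    rcases Nat.lt_or_ge (2 * k) q with hlt' | hge'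
    · nlinarith
    · nlinarith
  · obtain ⟨a, b, hab, rfl⟩ := Finset.card_eq_two.1 hn
    have ha : a ∈ ({a, b} : Finset ℕ) := by simp
    have hb : b ∈ ({a, b} : Finset ℕ) := by simp
    have h1 := hT.mul_div ha
    have h2 := hT.mul_div hb
    rw [Finset.sum_pair hab] at htot
    rw [hw a ha] at h1 htot
    rw [hw b hb] at h2 htot
    have h3 := hT.three_le a ha
    have h4 := hT.three_le b hb
    have hsum : a + b = 2 * q + 2 := by omega
    have hd : a * b ∣ 4 * (q * q + 1) :=
      Nat.Coprime.mul_dvd_of_dvd_of_dvd (hT.coprime a ha b hb hab)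
        ((hh ▸ hT.dvd a ha : a ∣ q * q + 1).mul_left 4)
        ((hh ▸ hT.dvd b hb : b ∣ q * q + 1).mul_left 4)
    obtain ⟨k, hk⟩ := hd
    have hk2 : 2 ≤ k := by
      by_contra hk2
      push Not at hk2
      have : a * b * k ≤ a * b * 1 := Nat.mul_le_mul_left _ (by omega)
      nlinarith [mul_self_nonneg ((a : ℤ) - b)]
    obtain ⟨k', rfl⟩ : ∃ k', k = k' + 2 := ⟨k - 2, by omega⟩
    have hkey : a * a + b * b + 8 = k' * (a * b) + 4 * a + 4 * b := by
      zify at hsum hk ⊢
      linear_combination ((a : ℤ) + b + 2 * q - 2) * hsum + hk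
    have hk' := descent (a + b) a b k' le_rfl (hT.odd a ha) (hT.odd b hb) hkey
    subst hk'
    have h8 : ((a : ℤ) - b) ^ 2 = 8 * q := by
      zify at hsum hkey
      linear_combination hkey + 4 * hsum
    have hnat : (Int.natAbs ((a : ℤ) - b)) ^ 2 = 2 ^ (f + 3) := by
      zify
      rw [sq_abs, h8, hq]
      push_cast
      ring
    obtain ⟨m, -, hm⟩ := (Nat.dvd_prime_pow Nat.prime_two).1
      (Dvd.intro_left _ (by rw [← hnat, sq]) : Int.natAbs ((a : ℤ) - b) ∣ 2 ^ (f + 3))
    rw [hm, ← pow_mul] at hnat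
    have := Nat.pow_right_injective le_rfl hnat
    exact Nat.odd_iff.2 (by omega)

theorem pred_prod_ge_sum (S : Finset ℕ) (hS : ∀ a ∈ S, 1 ≤ a) :
    ∑ a ∈ S, (a - 1) + 1 ≤ ∏ a ∈ S, a := by
  induction S using Finset.induction with
  | empty => simp
  | insert a S ha ih =>
    rw [Finset.sum_insert ha, Finset.prod_insert ha]
    have h1 := hS a (Finset.mem_insert_self a S)
    have h2 := ih fun b hb => hS b (Finset.mem_insert_of_mem hb)
    obtain ⟨a, rfl⟩ : ∃ c, a = c + 1 := ⟨a - 1, by omega⟩
    rw [Nat.add_sub_cancel]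
    have h3 := Nat.mul_le_mul_left (a + 1) h2
    rw [Nat.mul_add_one, add_one_mul] at h3
    omega

/-- At least two tori make the product of the orders large. -/
theorem TorusData.prod_ge (hT : TorusData q h e S w) (hq : 2 ≤ q) {a b : ℕ} (ha : a ∈ S)
    (hb : b ∈ S) (hab : a ≠ b) : 3 * (q - 1) ≤ ∏ x ∈ S, x := by
  have hsum : q ≤ ∑ x ∈ S, (x - 1) := by
    rw [← hT.total, Finset.mul_sum]
    refine Finset.sum_le_sum fun x hx => ?_
    calc 2 * ((x - 1) / w x) ≤ w x * ((x - 1) / w x) :=
          Nat.mul_le_mul_right _ (by rcases hT.w_mem x hx with e' | e' | e' <;> omega)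
      _ = x - 1 := hT.mul_div hx
  rw [← Finset.mul_prod_erase S (fun x => x) ha]
  rw [← Finset.add_sum_erase S _ ha] at hsum
  have h1 := pred_prod_ge_sum (S.erase a) (fun x hx => by
    have := hT.three_le x (Finset.mem_of_mem_erase hx); omega)
  have h3 : 2 ≤ ∑ x ∈ S.erase a, (x - 1) := by
    refine le_trans ?_ (Finset.single_le_sum (f := fun x => x - 1) (fun _ _ => Nat.zero_le _)
      (Finset.mem_erase.2 ⟨hab.symm, hb⟩))
    have := hT.three_le b hb; omega
  set P := ∏ x ∈ S.erase a, x with hP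
  have ha3 := hT.three_le a ha
  show 3 * (q - 1) ≤ a * P
  set s := ∑ x ∈ S.erase a, (x - 1)
  obtain ⟨α, rfl⟩ : ∃ c, a = c + 1 := ⟨a - 1, by omega⟩
  rw [Nat.add_sub_cancel] at hsum
  have hq' : q - 1 + 1 = q := by omega
  nlinarith

theorem TorusData.le_total (hT : TorusData q h e S w) {b : ℕ} (hb : b ∈ S) :
    (b - 1) / w b * 2 ≤ q ∧ b ≤ 4 * q + 1 := by
  have h1 := Finset.single_le_sum (f := fun x => (x - 1) / w x) (fun _ _ => Nat.zero_le _) hb
  have h2 := hT.mul_div hb
  have h3 := hT.total
  have h4 : w b ≤ 8 := by rcases hT.w_mem b hb with e' | e' | e' <;> omega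
  have h5 := Nat.mul_le_mul h4 (le_refl ((b - 1) / w b))
  omega

theorem TorusData.not_four (hT : TorusData 4 h e S w) (hn : h + 1 = 65) {a : ℕ} (ha : a ∈ S)
    (hF : 5 * (a - 1) ≤ w a * (a - 1) + w a) (hle : w a ≤ a - 1) : False := by
  have hmem : ∀ b ∈ S, b = 5 := by
    intro b hb
    have h4 := hT.dvd b hb
    rw [hn] at h4
    have hb' : b ∈ Nat.divisors 65 := Nat.mem_divisors.2 ⟨h4, by norm_num⟩
    rw [show Nat.divisors 65 = {1, 5, 13, 65} by decide] at hb'
    have h5 := (hT.le_total hb).1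
    have h6 := hT.mul_div hb
    have h7 := hT.three_le b hb
    have hd := hT.w_dvd b hb
    simp only [Finset.mem_insert, Finset.mem_singleton] at hb'
    rcases hb' with rfl | rfl | rfl | rfl
    · omega
    · rfl
    all_goals (rcases hT.w_mem _ hb with e' | e' | e' <;> rw [e'] at h5 h6 hd <;> omega)
  have hS : S = {a} := Finset.eq_singleton_iff_unique_mem.2
    ⟨ha, fun b hb => (hmem b hb).trans (hmem a ha).symm⟩
  have htot := hT.total
  rw [hS, Finset.sum_singleton] at htot
  have h5 := hmem a ha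
  subst h5
  rcases hT.w_mem 5 ha with e' | e' | e' <;> rw [e'] at hF hle htot <;> omega

theorem TorusData.not_eight (hT : TorusData 8 h e S w) (hn : h + 1 = 513) {a : ℕ}
    (ha : a ∈ S) (hF : 9 * (a - 1) ≤ w a * (a - 1) + w a) (hle : w a ≤ a - 1) : False := by
  have hmem : ∀ b ∈ S, b = 3 ∨ b = 9 := by
    intro b hb
    have h4 := hT.dvd b hb
    rw [hn] at h4
    rw [show (513 : ℕ) = 27 * 19 by norm_num] at h4
    obtain ⟨x, y, hx, hy, rfl⟩ := Nat.dvd_mul.1 h4
    have hx : x ∈ Nat.divisors 27 := Nat.mem_divisors.2 ⟨hx, by norm_num⟩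
    have hy : y ∈ Nat.divisors 19 := Nat.mem_divisors.2 ⟨hy, by norm_num⟩
    rw [show Nat.divisors 27 = {1, 3, 9, 27} by decide] at hx
    rw [show Nat.divisors 19 = {1, 19} by decide] at hy
    have h5 := hT.le_total hb
    have h6 := hT.mul_div hb
    have h7 := hT.three_le _ hb
    have hd := hT.w_dvd _ hb
    simp only [Finset.mem_insert, Finset.mem_singleton] at hx hy
    rcases hy with rfl | rfl <;> rcases hx with rfl | rfl | rfl | rfl
    all_goals first
      | omega
      | (rcases hT.w_mem _ hb with e' | e' | e' <;> rw [e'] at h5 h6 hd <;> omega)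
  have hS : S = {a} := by
    refine Finset.eq_singleton_iff_unique_mem.2 ⟨ha, fun b hb => ?_⟩
    by_contra hne
    have hc := hT.coprime b hb a ha hne
    rcases hmem b hb with rfl | rfl <;> rcases hmem a ha with rfl | rfl
    · exact hne rfl
    · norm_num at hc
    · norm_num at hc
    · exact hne rfl
  have htot := hT.total
  rw [hS, Finset.sum_singleton] at htot
  rcases hmem a ha with rfl | rfl <;>
    rcases hT.w_mem _ ha with e' | e' | e' <;> rw [e'] at hF hle htot <;> omega

/-- The case `h ≥ q ^ 3` is impossible, given the character-theoretic restrictions on the degree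
`d` of the exceptional characters. -/
theorem TorusData.not_three {f r F d : ℕ} (hT : TorusData q h e S w) (hq : q = 2 ^ f) (hq4 : 4 ≤ q)
    (hr : 3 ≤ r) (hh : h = q ^ r) (he : e + 1 = q) (hF : F * e + 1 = q ^ (r - 1))
    (hd : 0 < d) (hed : e ∣ d) (hcop : ∀ a ∈ S, Nat.Coprime a e)
    (hdiv : ∀ a ∈ S, a ∣ d ∨ F * (a - 1) ≤ w a * a) (hbound : F * d < 2 * h + 4) : False := by
  obtain ⟨X, hX⟩ : ∃ X, X = q ^ (r - 1) := ⟨_, rfl⟩
  rw [← hX] at hF
  have hhX : h = q * X := by rw [hh, hX, ← pow_succ', Nat.sub_add_cancel (by omega)]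
  have hXq : q * q ≤ X := by
    rw [hX, ← sq]; exact Nat.pow_le_pow_right (by omega) (by omega)
  have hF5 : q + 1 ≤ F := by
    by_contra hlt
    push Not at hlt
    have := Nat.mul_le_mul_right e (Nat.le_of_lt_succ hlt)
    nlinarith
  have hcase : ∀ a ∈ S, a ∣ d := by
    intro a ha
    rcases hdiv a ha with hd' | hF'
    · exact hd'
    exfalso
    have h3 := hT.three_le a ha
    have hda := hT.mul_div ha
    have hT' := hT.total
    have hFle : F * (a - 1) ≤ w a * (a - 1) + w a := by
      calc F * (a - 1) ≤ w a * a := hF'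
        _ = w a * (a - 1 + 1) := by rw [Nat.sub_add_cancel (by omega)]
        _ = _ := by ring
    have hw := hT.w_dvd a ha
    have hle := Nat.le_of_dvd (by omega) hw
    -- only `q ∈ {4, 8}` and `r = 3` survive
    have hF9 : F ≤ 9 := by
      have h8 : w a ≤ 8 := by rcases hT.w_mem a ha with e' | e' | e' <;> omega
      refine Nat.le_of_mul_le_mul_right (?_ : F * (a - 1) ≤ 9 * (a - 1)) (by omega)
      have := Nat.mul_le_mul_right (a - 1) h8
      omega
    have hr3 : r = 3 := by
      by_contra hne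
      have : q * q * q ≤ X := by
        rw [hX, show q * q * q = q ^ 3 by ring]
        exact Nat.pow_le_pow_right (by omega) (by omega)
      have h1 := Nat.mul_le_mul_right e hF9
      have h2 : 16 * q ≤ q * q * q := Nat.mul_le_mul_right q (Nat.mul_le_mul hq4 hq4)
      omega
    subst hr3
    have hXe : X = q * q := by rw [hX]; ring
    have hFq : F = q + 1 := by
      refine Nat.eq_of_mul_eq_mul_right (show 0 < e by omega) ?_
      have h1 : (q + 1) * e + 1 = q * q := by rw [← he]; ring
      omega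
    subst hFq
    have hq8 : q ≤ 8 := by omega
    have hf : f ≤ 3 := by
      by_contra hf
      have := Nat.pow_le_pow_right (show 1 ≤ 2 by omega) (show 4 ≤ f by omega)
      omega
    have hq48 : q = 4 ∨ q = 8 := by
      rw [hq] at hq4 hq8 ⊢
      interval_cases f <;> simp_all
    rcases hq48 with rfl | rfl
    · exact hT.not_four (by rw [hh]; norm_num) ha hFle hle
    · exact hT.not_eight (by rw [hh]; norm_num) ha hFle hle
  -- all orders divide `d`
  have hcop' : Nat.Coprime (∏ a ∈ S, a) e := Nat.Coprime.prod_left hcop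
  have hP : (∏ a ∈ S, a) * e ∣ d := by
    refine hcop'.mul_dvd_of_dvd_of_dvd ?_ hed
    have : ((S : Set ℕ).Pairwise (Function.onFun IsRelPrime fun x => x)) := fun x hx y hy hne =>
      Nat.coprime_iff_isRelPrime.1 (hT.coprime x hx y hy hne)
    exact Finset.prod_dvd_of_isRelPrime this hcase
  set P := ∏ a ∈ S, a with hPdef
  have hPd : P * e ≤ d := Nat.le_of_dvd hd hP
  have hP2q : P ≤ 2 * q := by
    by_contra hgt
    push Not at hgt
    have h1 : F * (P * e) ≤ F * d := Nat.mul_le_mul_left _ hPd
    have h2 : (2 * q + 1) * (F * e) ≤ P * (F * e) := Nat.mul_le_mul_right _ hgt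
    have h3 : (2 * q + 1) * (F * e) + (2 * q + 1) = 2 * h + X := by rw [hhX, ← hF]; ring
    have h4 : P * (F * e) = F * (P * e) := by ring
    have h5 : 4 * q ≤ q * q := Nat.mul_le_mul_right q hq4
    omega
  rcases Finset.eq_empty_or_nonempty S with hS | ⟨a, ha⟩
  · have := hT.total; rw [hS] at this; simp at this; omega
  by_cases hS : ∃ b ∈ S, b ≠ a
  · obtain ⟨b, hb, hba⟩ := hS
    have := hT.prod_ge (by omega) ha hb (Ne.symm hba)
    omega
  push Not at hS
  have hSe : S = {a} := Finset.eq_singleton_iff_unique_mem.2 ⟨ha, hS⟩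
  have h1 := hT.total
  have h2 := hT.mul_div ha
  have h3 := hT.three_le a ha
  rw [hSe, Finset.sum_singleton] at h1
  rw [hPdef, hSe, Finset.prod_singleton] at hP2q
  have haq : w a = 2 := by
    rcases hT.w_mem a ha with e' | e' | e'
    · exact e'
    all_goals (rw [e'] at h1 h2; omega)
  rw [haq] at h1 h2
  have hb := hT.bound
  rw [hSe, Finset.sum_singleton, haq] at hb
  have ha' : (a : ℚ) = q + 1 := by exact_mod_cast (show a = q + 1 by omega)
  have ht : 2 * (((a - 1) / 2 : ℕ) : ℚ) = q := by exact_mod_cast h1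
  have he' : (e : ℚ) = q - 1 := by
    have : ((e + 1 : ℕ) : ℚ) = q := by exact_mod_cast he
    push_cast at this; linarith
  have hq' : (4 : ℚ) ≤ q := by exact_mod_cast hq4
  rw [ha', he', div_le_div_iff₀ (by positivity) (by nlinarith)] at hb
  have hhq : (h : ℚ) ≤ q := by
    have e1 : (((a - 1) / 2 : ℕ) : ℚ) = (q : ℚ) / 2 := by linarith
    rw [e1] at hb
    linarith
  have : h ≤ q := by exact_mod_cast hhq
  nlinarith

end CfsgLib.ZT
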