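import Cfsg.Agent.Lib.ZT.Tori
import Cfsg.Agent.Lib.Char.Induced
import Cfsg.Agent.Lib.Char.Linear
import Cfsg.Agent.Lib.Char.Complete
import Cfsg.Agent.Lib.Char.Integral
import Cfsg.Agent.Lib.Char.Virtual
import Cfsg.Agent.Lib.Char.CentralOver

/-!
# Induced class functions from the kernel: values and inner products
-/

set_option autoImplicit false
set_option linter.style.haveILetI false
set_option linter.unusedSectionVars false

open MulAction
open scoped ComplexConjugate

namespace CfsgLib.ZT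

open CfsgLib.Zass CfsgLib.SuzukiTwo

universe u

variable {G : Type u} {Ω : Type*} [Group G] [Fintype G] [MulAction G Ω] [Fintype Ω]

/-- The function `1 - f` for a linear character `f`. -/
def oneSub {H : Type*} [Group H] (f : H →* ℂˣ) : H → ℂ := fun u => 1 - (f u : ℂ)

/-- The generalized character induced by `1 - f` from the kernel. -/
noncomputable def excFun {U : Subgroup G} (f : U →* ℂˣ) : G → ℂ := Cfsg.indFun U (oneSub f)

/-- The conjugate of a linear character of the kernel by an element of the two-point stabiliser. -/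
noncomputable def twist {a b : Ω} {U : Subgroup G} (hK : Pre.IsKernel a U) (f : U →* ℂˣ)
    (k : ↥(pair G a b)) : U →* ℂˣ :=
  f.comp (conjHom hK k).toMonoidHom

theorem oneSub_eq {H : Type*} [Group H] (f : H →* ℂˣ) :
    oneSub f = (fun _ => (1 : ℂ)) - fun u => (f u : ℂ) := rfl

theorem linear_apply_conj {H : Type*} [Group H] (f : H →* ℂˣ) (v u : H) :
    f (v⁻¹ * u * v) = f u := by
  rw [map_mul, map_mul, map_inv, mul_comm _ (f v), mul_inv_cancel_left]

theorem classInner_linear {H : Type*} [Group H] [Fintype H] (f f' : H →* ℂˣ)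
    [Decidable (f = f')] :
    Cfsg.classInner (fun u => (f u : ℂ)) (fun u => (f' u : ℂ)) = if f = f' then 1 else 0 := by
  classical
  rw [Char.classInner_irr (Char.isIrrCharacter_linear f) (Char.isIrrCharacter_linear f')]
  refine if_congr ⟨fun h => MonoidHom.ext fun u => Units.ext (congrFun h u), fun h => by rw [h]⟩ rfl rfl

theorem classInner_oneSub {H : Type*} [Group H] [Fintype H] {f f' : H →* ℂˣ} (hf : f ≠ 1)
    (hf' : f' ≠ 1) [Decidable (f = f')] :
    Cfsg.classInner (oneSub f) (oneSub f') = 1 + if f = f' then 1 else 0 := by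
  classical
  have h1 : (fun _ : H => (1 : ℂ)) = fun u => (((1 : H →* ℂˣ) u : ℂˣ) : ℂ) := by simp
  rw [oneSub_eq, oneSub_eq, Char.classInner_sub_left, Char.classInner_sub_right,
    Char.classInner_sub_right, h1, classInner_linear, classInner_linear, classInner_linear,
    classInner_linear, if_pos rfl, if_neg (Ne.symm hf'), if_neg hf]
  ring

theorem classInner_oneSub_one {H : Type*} [Group H] [Fintype H] {f : H →* ℂˣ} (hf : f ≠ 1) :
    Cfsg.classInner (oneSub f) (fun _ : H => (1 : ℂ)) = 1 := by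
  classical
  have h1 : (fun _ : H => (1 : ℂ)) = fun u => (((1 : H →* ℂˣ) u : ℂˣ) : ℂ) := by simp
  rw [oneSub_eq, Char.classInner_sub_left, h1, classInner_linear, classInner_linear, if_pos rfl,
    if_neg hf, sub_zero]

theorem classInner_one_one {H : Type*} [Group H] [Fintype H] :
    Cfsg.classInner (fun _ : H => (1 : ℂ)) (fun _ => (1 : ℂ)) = 1 :=
  Char.classInner_irr_self Char.isIrrCharacter_principal

namespace Setting

variable {a b : Ω} {U : Subgroup G} (hS : Setting G a b U)
include hS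

theorem kernel_le : U ≤ stabilizer G a := fun u hu => hS.kernel.le u hu

theorem card_pair_eq' {c d : Ω} (hcd : c ≠ d) :
    Nat.card ↥(stabilizer G c ⊓ stabilizer G d) = Nat.card ↥(pair G a b) :=
  hS.oddInv.pre.card_pair_eq hcd hS.ne

theorem exists_swap_inverting : ∃ s : G, ∀ k : ↥(pair G a b), s * k * s⁻¹ = (k : G)⁻¹ := by
  obtain ⟨v, -, -, va, vb⟩ :=
    hS.oddInv.pre.exists_swap (hS.oddInv.pre.two_dvd_card hS.ne) hS.ne
  exact ⟨v, fun k => hS.oddInv.inv a b hS.ne v va vb k k.2⟩

theorem sum_stabilizer [DecidableEq Ω] [Fintype U] [Fintype ↥(pair G a b)] (F : G → ℂ) :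
    ∑ x ∈ Finset.univ.filter (fun x : G => x • a = a), F x =
      ∑ v : U, ∑ k : ↥(pair G a b), F ((v : G) * k) := by
  classical
  rw [← Fintype.sum_prod_type' (fun (v : U) (k : ↥(pair G a b)) => F ((v : G) * k))]
  symm
  refine Finset.sum_bij (fun p _ => (p.1 : G) * p.2) ?_ ?_ ?_ (fun _ _ => rfl)
  · rintro ⟨v, k⟩ -
    refine Finset.mem_filter.2 ⟨Finset.mem_univ _, ?_⟩
    show ((v : G) * k) • a = a
    rw [mul_smul, show (k : G) • a = a from k.2.1, hS.kernel.le v v.2]
  · rintro ⟨v, k⟩ - ⟨v', k'⟩ - h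
    have h' : (v : G) * k = v' * k' := h
    have h1 : (v' : G)⁻¹ * v = k' * (k : G)⁻¹ := by
      calc (v' : G)⁻¹ * v = (v' : G)⁻¹ * ((v : G) * k) * (k : G)⁻¹ := by group
        _ = _ := by rw [h']; group
    have h2 := hS.eq_one_of_mem (U.mul_mem (U.inv_mem v'.2) v.2) (by
      rw [h1]; exact (k' * k⁻¹).2.2)
    have h3 : (v : G) = v' := (inv_mul_eq_one.1 h2).symm
    rw [h3] at h'
    exact Prod.ext (Subtype.ext h3) (Subtype.ext (mul_left_cancel h'))
  · intro x hx
    obtain ⟨v, hv, h1, h2⟩ := hS.kernel.exists_factor hS.ne.symm (Finset.mem_filter.1 hx).2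
    exact ⟨(⟨v, hv⟩, ⟨v⁻¹ * x, h1, h2⟩), Finset.mem_univ _, mul_inv_cancel_left v x⟩

theorem card_stab : Nat.card (stabilizer G a) = Nat.card U * Nat.card ↥(pair G a b) := by
  rw [hS.oddInv.pre.card_stabilizer hS.ne, hS.card_omega, Nat.add_sub_cancel]

/-- The value at a nontrivial kernel element of a function induced from a subgroup of the point
stabiliser. -/
theorem indFun_kernel [Fintype U] [Fintype ↥(pair G a b)] {H : Subgroup G} (hH : H ≤ stabilizer G a)
    (θ : H → ℂ) {u : G} (hu : u ∈ U) (hu1 : u ≠ 1) :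
    Cfsg.indFun H θ u = (Nat.card H : ℂ)⁻¹ * ∑ v : U, ∑ k : ↥(pair G a b),
      Cfsg.extendByZero H θ (((v : G) * k)⁻¹ * u * ((v : G) * k)) := by
  classical
  rw [Char.indFun_apply, ← hS.sum_stabilizer (fun x => Cfsg.extendByZero H θ (x⁻¹ * u * x))]
  congr 1
  refine (Finset.sum_subset (Finset.subset_univ _) fun x _ hx => ?_).symm
  refine Char.extendByZero_of_notMem _ _ fun hm => hx (Finset.mem_filter.2 ⟨Finset.mem_univ _, ?_⟩)
  have h1 : (x⁻¹ * u * x) • a = a := hH hm
  rw [mul_smul, mul_smul, inv_smul_eq_iff] at h1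
  exact hS.kernel.fix u hu hu1 _ h1

theorem conj_mem_kernel (v : U) (k : ↥(pair G a b)) {u : G} (hu : u ∈ U) :
    ((v : G) * k)⁻¹ * u * ((v : G) * k) ∈ U := by
  have h := hS.kernel.conj_mem (((v : G) * k)⁻¹) ?_ u hu
  · rwa [inv_inv] at h
  · rw [inv_smul_eq_iff, mul_smul, show (k : G) • a = a from k.2.1, hS.kernel.le v v.2]

/-- The restriction to the kernel of `excFun f`. -/
theorem excFun_kernel [Fintype U] [Fintype ↥(pair G a b)] (f : U →* ℂˣ) (u : U) :
    excFun f u = ∑ k : ↥(pair G a b), oneSub (twist hS.kernel f k) u := by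
  classical
  by_cases hu1 : u = 1
  · subst hu1
    simp [excFun, oneSub, Char.indFun_apply_one]
  rw [excFun, hS.indFun_kernel hS.kernel_le _ u.2 (fun e => hu1 (Subtype.ext e))]
  have hterm : ∀ (v : U) (k : ↥(pair G a b)),
      Cfsg.extendByZero U (oneSub f) (((v : G) * k)⁻¹ * u * ((v : G) * k)) =
        oneSub (twist hS.kernel f k⁻¹) u := by
    intro v k
    rw [Char.extendByZero_apply_mem _ _ (hS.conj_mem_kernel v k u.2)]
    have e : (⟨((v : G) * k)⁻¹ * u * ((v : G) * k), hS.conj_mem_kernel v k u.2⟩ : U) =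
        conjHom hS.kernel k⁻¹ (v⁻¹ * u * v) := by
      refine Subtype.ext ?_
      rw [conjHom_coe]
      push_cast
      group
    show 1 - _ = 1 - _
    rw [e]
    exact congrArg (fun z : ℂˣ => (1 : ℂ) - z) (linear_apply_conj (twist hS.kernel f k⁻¹) v u)
  rw [Finset.sum_congr rfl fun v _ => Finset.sum_congr rfl fun k _ => hterm v k, Finset.sum_const,
    Finset.card_univ, nsmul_eq_mul, ← mul_assoc, ← Nat.card_eq_fintype_card,
    inv_mul_cancel₀ (Nat.cast_ne_zero.2 Nat.card_pos.ne'), one_mul]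
  exact Fintype.sum_equiv (Equiv.inv _) _ _ fun k => rfl

/-- `excFun` depends only on the orbit. -/
theorem excFun_twist (f : U →* ℂˣ) (k : ↥(pair G a b)) : excFun (twist hS.kernel f k) = excFun f := by
  classical
  funext g
  rw [excFun, excFun, Char.indFun_apply, Char.indFun_apply]
  congr 1
  refine Fintype.sum_equiv (Equiv.mulRight (k : G)⁻¹) _ _ fun x => ?_
  have e : ((x * (k : G)⁻¹)⁻¹ * g * (x * (k : G)⁻¹)) = k * (x⁻¹ * g * x) * (k : G)⁻¹ := by group
  show _ = Cfsg.extendByZero U (oneSub f) ((x * (k : G)⁻¹)⁻¹ * g * (x * (k : G)⁻¹))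
  rw [e]
  by_cases hm : x⁻¹ * g * x ∈ U
  · rw [Char.extendByZero_apply_mem _ _ hm,
      Char.extendByZero_apply_mem _ _ (hS.kernel.conj_mem _ k.2.1 _ hm)]
    rfl
  · rw [Char.extendByZero_of_notMem _ _ hm, Char.extendByZero_of_notMem _ _ fun h => hm ?_]
    have := hS.kernel.conj_mem _ (show ((k⁻¹ : ↥(pair G a b)) : G) • a = a from (k⁻¹).2.1) _ h
    simpa [mul_assoc] using this

/-- The two-point stabiliser acts freely on the nontrivial linear characters of the kernel. -/
theorem twist_ne {f : U →* ℂˣ} (hf : f ≠ 1) {k : ↥(pair G a b)} (hk : k ≠ 1) :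
    twist hS.kernel f k ≠ f := by
  intro h
  refine hf (MonoidHom.ext fun u => ?_)
  obtain ⟨x, hx, hxu⟩ := hS.kernel.exists_commutator hS.oddInv.pre hS.ne.symm k.2.1 k.2.2
    (fun e => hk (Subtype.ext e)) u.2
  have e : u = conjHom hS.kernel k ⟨x, hx⟩ * (⟨x, hx⟩ : U)⁻¹ := Subtype.ext hxu.symm
  have h' : f (conjHom hS.kernel k ⟨x, hx⟩) = f ⟨x, hx⟩ := DFunLike.congr_fun h _
  rw [e, map_mul, map_inv, h', mul_inv_cancel, MonoidHom.one_apply]

theorem twist_ne_one {f : U →* ℂˣ} (hf : f ≠ 1) (k : ↥(pair G a b)) : twist hS.kernel f k ≠ 1 := by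
  intro h
  refine hf (MonoidHom.ext fun u => ?_)
  have := DFunLike.congr_fun h ((conjHom hS.kernel k).symm u)
  simpa [twist] using this

theorem classInner_excFun [Fintype U] [Fintype ↥(pair G a b)] {f f' : U →* ℂˣ} (hf : f ≠ 1)
    (hf' : f' ≠ 1) [DecidableEq (U →* ℂˣ)] :
    Cfsg.classInner (excFun f) (excFun f') = (Nat.card ↥(pair G a b) : ℂ) +
      ((Finset.univ.filter fun k : ↥(pair G a b) => f = twist hS.kernel f' k).card : ℂ) := by
  classical
  show Cfsg.classInner (Cfsg.indFun U (oneSub f)) (excFun f') = _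
  rw [Char.classInner_indFun U (oneSub f) (excFun f') (Char.isClassFunction_indFun _ _),
    show (fun u : U => excFun f' u) = ∑ k : ↥(pair G a b), oneSub (twist hS.kernel f' k) from
      funext fun u => by rw [hS.excFun_kernel, Finset.sum_apply],
    Char.classInner_sum_right,
    Finset.sum_congr rfl fun k _ => classInner_oneSub hf (hS.twist_ne_one hf' k),
    Finset.sum_add_distrib, Finset.sum_const, Finset.card_univ, nsmul_eq_mul, mul_one,
    Finset.sum_boole, Nat.card_eq_fintype_card]

/-- The class function induced by the principal character of the kernel. -/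
theorem indU_kernel [Fintype U] [Fintype ↥(pair G a b)] {u : G} (hu : u ∈ U) (hu1 : u ≠ 1) :
    Cfsg.indFun U (fun _ => (1 : ℂ)) u = (Nat.card ↥(pair G a b) : ℂ) := by
  classical
  rw [hS.indFun_kernel hS.kernel_le _ hu hu1, Finset.sum_congr rfl fun v _ =>
    Finset.sum_congr rfl fun k _ => Char.extendByZero_apply_mem _ _ (hS.conj_mem_kernel v k hu)]
  simp only [Finset.sum_const, Finset.card_univ, nsmul_eq_mul, mul_one, ← Nat.card_eq_fintype_card]
  rw [← mul_assoc, inv_mul_cancel₀ (Nat.cast_ne_zero.2 Nat.card_pos.ne'), one_mul]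

theorem indB_kernel [Fintype U] [Fintype ↥(pair G a b)] {u : G} (hu : u ∈ U) (hu1 : u ≠ 1) :
    Cfsg.indFun (stabilizer G a) (fun _ => (1 : ℂ)) u = 1 := by
  classical
  rw [hS.indFun_kernel le_rfl _ hu hu1, Finset.sum_congr rfl fun v _ =>
    Finset.sum_congr rfl fun k _ =>
      Char.extendByZero_apply_mem _ _ (hS.kernel_le (hS.conj_mem_kernel v k hu))]
  simp only [Finset.sum_const, Finset.card_univ, nsmul_eq_mul, mul_one, ← Nat.card_eq_fintype_card]
  rw [hS.card_stab, Nat.cast_mul, inv_mul_cancel₀]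
  exact mul_ne_zero (Nat.cast_ne_zero.2 Nat.card_pos.ne') (Nat.cast_ne_zero.2 Nat.card_pos.ne')

theorem index_kernel : (U.index : ℂ) = ((Nat.card U : ℂ) + 1) * Nat.card ↥(pair G a b) := by
  have h := U.index_mul_card
  rw [hS.card_group] at h
  have hU : 0 < Nat.card U := Nat.card_pos
  have h2 : U.index = (Nat.card U + 1) * Nat.card ↥(pair G a b) := by
    refine Nat.eq_of_mul_eq_mul_right hU ?_
    rw [h]; ring
  exact_mod_cast h2

theorem index_stab : ((stabilizer G a).index : ℂ) = (Nat.card U : ℂ) + 1 := by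
  have h := (stabilizer G a).index_mul_card
  rw [hS.card_group, hS.card_stab] at h
  have h2 : (stabilizer G a).index = Nat.card U + 1 := by
    refine Nat.eq_of_mul_eq_mul_right
      (show 0 < Nat.card U * Nat.card ↥(pair G a b) from Nat.mul_pos Nat.card_pos Nat.card_pos) ?_
    rw [h]; ring
  exact_mod_cast h2

/-- Inner products on the kernel of a function taking a constant value off the identity. -/
theorem classInner_const_off [Fintype U] (θ : G → ℂ) (c : ℕ) (v : ℕ) (h1 : θ 1 = (v : ℂ))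
    (hc : ∀ u ∈ U, u ≠ 1 → θ u = (c : ℂ)) :
    Cfsg.classInner (fun _ : U => (1 : ℂ)) (fun u : U => θ u) * (Nat.card U : ℂ) =
      (v : ℂ) + ((Nat.card U : ℂ) - 1) * c := by
  classical
  rw [Cfsg.classInner, ← Finset.add_sum_erase _ _ (Finset.mem_univ (1 : U)),
    Finset.sum_congr rfl (fun u hu => by
      rw [hc u u.2 (fun e => (Finset.mem_erase.1 hu).1 (Subtype.ext e))]),
    Finset.sum_const, Finset.card_erase_of_mem (Finset.mem_univ _), Finset.card_univ,
    ← Nat.card_eq_fintype_card, nsmul_eq_mul, OneMemClass.coe_one, h1, Nat.cast_sub Nat.card_pos]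
  have : (Nat.card U : ℂ) ≠ 0 := Nat.cast_ne_zero.2 Nat.card_pos.ne'
  simp only [one_mul, Complex.conj_natCast]
  field_simp
  push_cast
  ring

theorem inner_indB_indB [Fintype U] [Fintype ↥(pair G a b)] :
    Cfsg.classInner (Cfsg.indFun (stabilizer G a) fun _ => (1 : ℂ))
      (Cfsg.indFun (stabilizer G a) fun _ => (1 : ℂ)) = 2 := by
  classical
  haveI := Fintype.ofFinite (stabilizer G a)
  set B := stabilizer G a with hB
  rw [Char.classInner_indFun _ _ _ (Char.isClassFunction_indFun _ _), Cfsg.classInner]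
  have hsum : ∑ g : B, (Cfsg.indFun B (fun _ => (1 : ℂ)) g) =
      (Nat.card B : ℂ)⁻¹ *
        ∑ x : G, (Nat.card ↥(stabilizer G a ⊓ stabilizer G (x • a)) : ℂ) := by
    simp only [Char.indFun_apply, ← Finset.mul_sum]
    congr 1
    rw [Finset.sum_comm]
    refine Finset.sum_congr rfl fun x _ => ?_
    have : ∀ g : B, Cfsg.extendByZero B (fun _ => (1 : ℂ)) (x⁻¹ * g * x) =
        if (g : G) • x • a = x • a then 1 else 0 := by
      intro g
      have hiff : x⁻¹ * g * x ∈ B ↔ (g : G) • x • a = x • a := by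
        show x⁻¹ * g * x ∈ stabilizer G a ↔ _
        rw [mem_stabilizer_iff, mul_smul, mul_smul, inv_smul_eq_iff]
      split_ifs with h
      · exact Char.extendByZero_apply_mem _ _ (hiff.2 h)
      · exact Char.extendByZero_of_notMem _ _ fun hm => h (hiff.1 hm)
    rw [Finset.sum_congr rfl fun g _ => this g, Finset.sum_boole, ← Fintype.card_subtype,
      ← Nat.card_eq_fintype_card]
    congr 1
    exact Nat.card_congr
      { toFun := fun g => ⟨g.1, g.1.2, g.2⟩
        invFun := fun g => ⟨⟨g, g.2.1⟩, g.2.2⟩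
        left_inv := fun _ => rfl
        right_inv := fun _ => rfl }
  have hconj : ∑ g : B, (1 : ℂ) * conj (Cfsg.indFun B (fun _ => (1 : ℂ)) g) =
      conj (∑ g : B, Cfsg.indFun B (fun _ => (1 : ℂ)) g) := by
    simp [map_sum]
  rw [hconj, hsum, ← Finset.sum_filter_add_sum_filter_not Finset.univ (fun x : G => x • a = a),
    Finset.sum_congr rfl (g := fun _ => (Nat.card B : ℂ)) (fun x hx => by
      rw [(Finset.mem_filter.1 hx).2, inf_idem]),
    Finset.sum_congr (s₁ := Finset.univ.filter fun x : G => ¬ x • a = a) rfl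
      (g := fun _ => (Nat.card ↥(pair G a b) : ℂ)) (fun x hx => by
      rw [hS.card_pair_eq' (Ne.symm (Finset.mem_filter.1 hx).2)]),
    Finset.sum_const, Finset.sum_const, nsmul_eq_mul, nsmul_eq_mul]
  have hfilt : (Finset.univ.filter fun x : G => x • a = a).card = Nat.card B := by
    rw [hB, Nat.card_eq_fintype_card, Fintype.card_subtype]
    simp [mem_stabilizer_iff]
  have hneg : (Finset.univ.filter fun x : G => ¬ x • a = a).card + Nat.card B =
      Nat.card U * Nat.card B + Nat.card B := by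
    rw [← hfilt, add_comm, Finset.card_filter_add_card_filter_not, Finset.card_univ,
      ← Nat.card_eq_fintype_card, hS.card_group, hfilt, hB, hS.card_stab]
    ring
  rw [hfilt, show (Finset.univ.filter fun x : G => ¬ x • a = a).card = Nat.card U * Nat.card B by
    omega]
  simp only [map_mul, map_inv₀, map_add, Complex.conj_natCast, Nat.cast_mul]
  have hBc : (Nat.card B : ℂ) = Nat.card U * Nat.card ↥(pair G a b) := by
    rw [hB]; exact_mod_cast hS.card_stab
  rw [hBc]
  have h1 : (Nat.card U : ℂ) ≠ 0 := Nat.cast_ne_zero.2 Nat.card_pos.ne'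
  have h2 : (Nat.card ↥(pair G a b) : ℂ) ≠ 0 := Nat.cast_ne_zero.2 Nat.card_pos.ne'
  field_simp
  ring

/-- Parity: the multiplicities of the principal characters of the kernel and of the point
stabiliser in a restricted character agree modulo two. -/
theorem exists_half [Fintype U] [Fintype ↥(pair G a b)] [Fintype (stabilizer G a)]
    {χ : G → ℂ} (hχ : Cfsg.IsIrrCharacter G χ) {q m : ℕ}
    (hq : Cfsg.classInner (fun _ : U => (1 : ℂ)) (fun u : U => χ u) = q)
    (hm : Cfsg.classInner (fun _ : stabilizer G a => (1 : ℂ)) (fun u : stabilizer G a => χ u) = m) :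
    ∃ p : ℤ, 2 * p = (q : ℤ) - m := by
  classical
  obtain ⟨n, ρ, hρ, rfl⟩ := hχ
  have hcl : Cfsg.IsClassFunction G ρ.character :=
    Char.IsIrrCharacter.isClassFunction ⟨n, ρ, hρ, rfl⟩
  have hh0 : (Nat.card U : ℂ) ≠ 0 := Nat.cast_ne_zero.2 Nat.card_pos.ne'
  have he0 : (Nat.card ↥(pair G a b) : ℂ) ≠ 0 := Nat.cast_ne_zero.2 Nat.card_pos.ne'
  have hU : ∑ u : U, ρ.character u = (q : ℂ) * Nat.card U := by
    have := congrArg conj hq
    rw [Char.classInner_conj_symm, Complex.conj_natCast, Cfsg.classInner] at this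
    simp only [map_one, mul_one] at this
    rw [← this]; field_simp
  have hB : ∑ v : U, ∑ k : ↥(pair G a b), ρ.character ((v : G) * k) =
      (m : ℂ) * (Nat.card U * Nat.card ↥(pair G a b)) := by
    have := congrArg conj hm
    rw [Char.classInner_conj_symm, Complex.conj_natCast, Cfsg.classInner] at this
    simp only [map_one, mul_one] at this
    rw [← hS.sum_stabilizer, Finset.sum_subtype (p := fun x : G => x ∈ stabilizer G a) _
      (fun x => by simp [mem_stabilizer_iff]), ← this, hS.card_stab]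
    push_cast
    field_simp
  have hk : ∀ k : ↥(pair G a b), k ≠ 1 → ∀ v : U, ρ.character ((v : G) * k) = ρ.character k := by
    intro k hk v
    obtain ⟨x, hx, hxv⟩ := hS.kernel.exists_commutator hS.oddInv.pre hS.ne.symm k.2.1 k.2.2
      (fun e => hk (Subtype.ext e)) (U.inv_mem v.2)
    have e : (v : G) * k = x * k * x⁻¹ := by
      calc (v : G) * k = ((k : G) * x * (k : G)⁻¹ * x⁻¹)⁻¹ * k := by rw [hxv, inv_inv]
        _ = x * k * x⁻¹ := by group
    rw [e, hcl]
  set S := ∑ k ∈ (Finset.univ : Finset ↥(pair G a b)).erase 1, ρ.character k with hSdef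
  have hBsum : (m : ℂ) * Nat.card ↥(pair G a b) = q + S := by
    rw [Finset.sum_comm, ← Finset.add_sum_erase _ _ (Finset.mem_univ (1 : ↥(pair G a b)))] at hB
    simp only [OneMemClass.coe_one, mul_one] at hB
    rw [hU, Finset.sum_congr rfl (fun k hk' => Finset.sum_congr rfl
      (fun v _ => hk k (Finset.mem_erase.1 hk').1 v))] at hB
    simp only [Finset.sum_const, Finset.card_univ, nsmul_eq_mul, ← Nat.card_eq_fintype_card,
      ← Finset.mul_sum, ← hSdef] at hB
    refine mul_left_cancel₀ hh0 ?_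
    linear_combination -hB
  obtain ⟨s, hs⟩ := exists_swap_inverting hS
  let idx := Fintype.equivFin ↥(pair G a b)
  let T := Finset.univ.filter fun k : ↥(pair G a b) => idx k < idx k⁻¹
  have hinv1 : ∀ k : ↥(pair G a b), k⁻¹ = k → k = 1 := by
    intro k h
    obtain ⟨j, hj⟩ := hS.odd_e
    have h2 : k * k = 1 := by rw [← inv_eq_iff_mul_eq_one]; exact h
    have h3 : k ^ (2 * j + 1) = 1 := hj ▸ pow_card_eq_one'
    rwa [pow_succ, pow_mul, sq, h2, one_pow, one_mul] at h3
  have hsplit : S = 2 * ∑ k ∈ T, ρ.character k := by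
    have hneg : ((Finset.univ : Finset ↥(pair G a b)).erase 1).filter (fun k => ¬ idx k < idx k⁻¹) =
        T.image fun k => k⁻¹ := by
      ext k
      simp only [T, Finset.mem_filter, Finset.mem_erase, Finset.mem_univ, and_true, Finset.mem_image,
        true_and]
      constructor
      · rintro ⟨hk1, hlt⟩
        refine ⟨k⁻¹, ?_, inv_inv k⟩
        rw [inv_inv]
        exact lt_of_le_of_ne (not_lt.1 hlt) fun e => hk1 (hinv1 k (idx.injective e))
      · rintro ⟨j, hj, rfl⟩
        rw [inv_inv]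
        exact ⟨fun e => by rw [inv_eq_one] at e; subst e; simp at hj, hj.le.not_gt⟩
    have hpos : ((Finset.univ : Finset ↥(pair G a b)).erase 1).filter (fun k => idx k < idx k⁻¹) = T := by
      ext k
      simp only [T, Finset.mem_filter, Finset.mem_erase, Finset.mem_univ, and_true, true_and]
      exact ⟨fun h => h.2, fun h => ⟨fun e => by subst e; simp at h, h⟩⟩
    rw [hSdef, ← Finset.sum_filter_add_sum_filter_not _ (fun k => idx k < idx k⁻¹), hpos, hneg,
      Finset.sum_image (fun x _ y _ e => inv_injective e), two_mul]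
    congr 1
    refine Finset.sum_congr rfl fun k _ => ?_
    rw [Subgroup.coe_inv, ← hs k]
    exact hcl _ _
  set z := ∑ k ∈ T, ρ.character k with hz
  have hzi : IsIntegral ℤ z := IsIntegral.sum _ fun k _ => Char.isIntegral_character ρ _
  obtain ⟨z', hz'⟩ := Char.exists_int_of_isIntegral_ratCast
    (q := ((m * Nat.card ↥(pair G a b) : ℕ) - (q : ℕ) : ℚ) / 2) (by
      convert hzi using 1
      push_cast
      linear_combination (1 / 2 : ℂ) * hBsum + (1 / 2 : ℂ) * hsplit)
  obtain ⟨j, hj⟩ := hS.odd_e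
  refine ⟨m * j - z', ?_⟩
  rw [hj] at hz'
  have h2 : ((m * (2 * j + 1) : ℕ) : ℤ) - q = 2 * z' := by
    have : (((m * (2 * j + 1) : ℕ) : ℤ) : ℚ) - ((q : ℤ) : ℚ) = ((2 * z' : ℤ) : ℚ) := by
      push_cast at hz' ⊢
      linarith
    exact_mod_cast this
  push_cast at h2
  linarith

end Setting

end CfsgLib.ZT
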