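import Cfsg.Agent.Lib.ZT.Tori
import Cfsg.Agent.Lib.ZT.Arith
import Cfsg.Agent.Lib.Zass.Classes

/-!
# Counting the pairs of involutions: the families of real tori
-/

set_option autoImplicit false
set_option linter.style.haveILetI false
set_option linter.unusedSectionVars false

open MulAction

namespace CfsgLib.ZT

open CfsgLib.Zass CfsgLib.SuzukiTwo

variable {G Ω : Type*} [Group G] [MulAction G Ω] [Fintype Ω]

/-- The conjugates of a subgroup, counted with its normaliser. -/
theorem card_conjugates {H : Type*} [Group H] [Fintype H] [DecidableEq (Subgroup H)] (A : Subgroup H) :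
    (Finset.univ.image fun y : H => A.map (MulAut.conj y).toMonoidHom).card *
      Nat.card (Subgroup.normalizer (A : Set H)) = Nat.card H := by
  classical
  symm
  rw [Nat.card_eq_fintype_card (α := H), ← Finset.card_univ,
    Finset.card_eq_sum_card_image (fun y : H => A.map (MulAut.conj y).toMonoidHom)]
  refine Finset.sum_const_nat fun B hB => ?_
  obtain ⟨y₀, -, rfl⟩ := Finset.mem_image.1 hB
  rw [Nat.card_eq_fintype_card, Fintype.card_subtype]
  refine Finset.card_bij' (fun y _ => y₀⁻¹ * y) (fun y _ => y₀ * y) ?_ ?_ ?_ ?_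
  · intro y hy
    simp only [Finset.mem_filter, Finset.mem_univ, true_and] at hy ⊢
    rw [Subgroup.mem_normalizer_iff_map_conj_eq]
    have e : (MulAut.conj (y₀⁻¹ * y)).toMonoidHom =
        ((MulAut.conj y₀⁻¹).toMonoidHom).comp (MulAut.conj y).toMonoidHom := by
      ext z; simp [mul_assoc]
    have e' : ((MulAut.conj y₀⁻¹).toMonoidHom).comp (MulAut.conj y₀).toMonoidHom = MonoidHom.id H := by
      ext z; simp [mul_assoc]
    show A.map (MulAut.conj (y₀⁻¹ * y)).toMonoidHom = A
    rw [e, ← Subgroup.map_map, hy, Subgroup.map_map, e', Subgroup.map_id]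
  · intro y hy
    simp only [Finset.mem_filter, Finset.mem_univ, true_and] at hy ⊢
    rw [Subgroup.mem_normalizer_iff_map_conj_eq] at hy
    have hy' : A.map (MulAut.conj y).toMonoidHom = A := hy
    rw [show (MulAut.conj (y₀ * y)).toMonoidHom =
        ((MulAut.conj y₀).toMonoidHom).comp (MulAut.conj y).toMonoidHom by
      ext z; simp [mul_assoc], ← Subgroup.map_map, hy']
  · intro y _; exact mul_inv_cancel_left y₀ y
  · intro y _; exact inv_mul_cancel_left y₀ y

namespace Setting

variable {a b : Ω} {U : Subgroup G} (hS : Setting G a b U)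
include hS

theorem card_pair_eq {c d : Ω} (hcd : c ≠ d) :
    Nat.card ↥(pair G c d) = Nat.card ↥(pair G a b) :=
  hS.oddInv.pre.card_pair_eq hcd hS.ne

/-- The involutions exchanging two given points. -/
theorem card_swaps [Fintype G] [DecidableEq Ω] [DecidableEq G] {c d : Ω} (hcd : c ≠ d) :
    (Finset.univ.filter fun x : G => orderOf x = 2 ∧ x • c = d).card = Nat.card ↥(pair G a b) := by
  classical
  obtain ⟨v, -, vv, vc, vd⟩ := hS.oddInv.pre.exists_swap (hS.oddInv.pre.two_dvd_card hcd) hcd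
  rw [← hS.card_pair_eq hcd, Nat.card_eq_fintype_card, Fintype.card_subtype]
  refine Finset.card_bij' (fun t _ => v * t) (fun t _ => v * t) ?_ ?_ ?_ ?_
  · intro t ht
    simp only [Finset.mem_filter, Finset.mem_univ, true_and] at ht ⊢
    obtain ⟨ht2, htc⟩ := ht
    have htd : t • d = c := by
      rw [← htc, ← mul_smul, (mul_self_of_orderOf ht2).1, one_smul]
    exact ⟨show (v * t) • c = c by rw [mul_smul, htc, vd], show (v * t) • d = d by
      rw [mul_smul, htd, vc]⟩
  · intro t ht
    simp only [Finset.mem_filter, Finset.mem_univ, true_and] at ht ⊢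
    obtain ⟨h1, h2⟩ := ht
    replace h1 : t • c = c := h1
    replace h2 : t • d = d := h2
    exact ⟨hS.oddInv.swap_sq hcd (by rw [mul_smul, h1, vc]) (by rw [mul_smul, h2, vd]),
      by rw [mul_smul, h1, vc]⟩
  · intro t _; rw [← mul_assoc, vv, one_mul]
  · intro t _; rw [← mul_assoc, vv, one_mul]

/-- Twice the number of pairs of involutions with fixed-point-free product. -/
theorem card_fpf_pairs [Fintype G] [DecidableEq Ω] [DecidableEq G] :
    2 * (((Finset.univ.filter fun x : G => orderOf x = 2) ×ˢ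
      (Finset.univ.filter fun x : G => orderOf x = 2)).filter
        fun z : G × G => ∀ c : Ω, (z.1 * z.2) • c ≠ c).card =
      (Nat.card ↥(pair G a b) + 1) * Nat.card G := by
  classical
  set e := Nat.card ↥(pair G a b) with he
  set T : Finset G := Finset.univ.filter fun x : G => orderOf x = 2 with hT
  have hTcard : T.card = e * (Nat.card U + 1) := by
    have h := hS.oddInv.card_involutions_even hS.ne hS.card_omega rfl
    rw [if_pos hS.even_h, Nat.card_eq_fintype_card, Fintype.card_subtype] at h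
    exact h
  have hTc : ∀ c : Ω, (T.filter fun x => x • c = c).card = e := by
    intro c
    rw [he, ← hS.oddInv.card_involutions_fix hS.odd_omega hS.ne rfl c, Nat.card_eq_fintype_card,
      Fintype.card_subtype, hT, Finset.filter_filter]
  have hmemT : ∀ x, x ∈ T ↔ orderOf x = 2 := fun x => by simp [hT]
  -- the trichotomy
  have htri : ∀ z ∈ T ×ˢ T, (∀ c : Ω, (z.1 * z.2) • c ≠ c) ∨
      (∃ c : Ω, z.1 • c = c ∧ z.2 • c = c) ∨
      (z.1 ≠ z.2 ∧ ∃ c d : Ω, c ≠ d ∧ (z.1 * z.2) • c = c ∧ (z.1 * z.2) • d = d) := by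
    intro z hz
    obtain ⟨hx, hy⟩ := Finset.mem_product.1 hz
    rw [hmemT] at hx hy
    by_cases h : ∀ c : Ω, (z.1 * z.2) • c ≠ c
    · exact Or.inl h
    push Not at h
    obtain ⟨c, hc⟩ := h
    by_cases hxy : z.1 = z.2
    · obtain ⟨c', hc', -⟩ := hS.exists_fix hx
      exact Or.inr (Or.inl ⟨c', hc', hxy ▸ hc'⟩)
    by_cases h2 : ∃ d, d ≠ c ∧ (z.1 * z.2) • d = d
    · obtain ⟨d, hd, hd'⟩ := h2
      exact Or.inr (Or.inr ⟨hxy, c, d, hd.symm, hc, hd'⟩)
    push Not at h2
    obtain ⟨-, h1, h3⟩ := hS.oddInv.orderOf_product hx hy rfl (fun h1 => hxy (by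
      rw [eq_inv_of_mul_eq_one_left h1, (mul_self_of_orderOf hy).2.2])) hc
      (fun d hd => by_contra fun hne => h2 d hne hd)
    exact Or.inr (Or.inl ⟨c, h1, h3⟩)
  have hswap : ∀ x y : G, orderOf x = 2 → orderOf y = 2 → x ≠ y → ∀ c d : Ω, c ≠ d →
      (x * y) • c = c → (x * y) • d = d → x • c = d ∧ y • c = d := by
    intro x y hx hy hxy c d hcd hc hd
    obtain ⟨xx, -, xinv⟩ := mul_self_of_orderOf hx
    obtain ⟨yy, -, yinv⟩ := mul_self_of_orderOf hy
    have hu1 : x * y ≠ 1 := fun h1 => hxy (by rw [eq_inv_of_mul_eq_one_left h1, yinv])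
    have hperm : ∀ w : Ω, (x * y) • w = w → (x * y) • x • w = x • w := by
      intro w hw
      have e1 : x * y * x = x * (x * y)⁻¹ := by
        rw [mul_inv_rev, xinv, yinv, mul_assoc]
      rw [← mul_smul, e1, mul_smul, inv_smul_eq_iff.2 hw.symm]
    have hxc : x • c = d := by
      rcases hS.oddInv.pre.eq_or_eq hu1 hcd hc hd (hperm c hc) with h | h
      · exfalso
        rcases hS.oddInv.pre.eq_or_eq hu1 hcd hc hd (hperm d hd) with h' | h'
        · exact hcd (MulAction.injective x (h.trans h'.symm))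
        · exact hcd (hS.oddInv.involution_fix_le_one hx h h').symm
      · exact h
    refine ⟨hxc, ?_⟩
    calc y • c = (x * x) • y • c := by rw [xx, one_smul]
      _ = x • (x * y) • c := by rw [← mul_smul, ← mul_smul, mul_assoc]
      _ = d := by rw [hc, hxc]
  set P₀ := (T ×ˢ T).filter fun z : G × G => ∀ c : Ω, (z.1 * z.2) • c ≠ c with hP₀
  set P₁ := (T ×ˢ T).filter fun z : G × G => ∃ c : Ω, z.1 • c = c ∧ z.2 • c = c with hP₁
  set P₂ := (T ×ˢ T).filter fun z : G × G =>
    z.1 ≠ z.2 ∧ ∃ c d : Ω, c ≠ d ∧ (z.1 * z.2) • c = c ∧ (z.1 * z.2) • d = d with hP₂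
  have hsplit : P₀.card + (P₁.card + P₂.card) = (T ×ˢ T).card := by
    rw [← Finset.card_union_of_disjoint, ← Finset.card_union_of_disjoint]
    · congr 1
      ext z
      simp only [hP₀, hP₁, hP₂, Finset.mem_union, Finset.mem_filter]
      constructor
      · rintro (h | h | h) <;> exact h.1
      · intro hz
        rcases htri z hz with h | h | h
        · exact Or.inl ⟨hz, h⟩
        · exact Or.inr (Or.inl ⟨hz, h⟩)
        · exact Or.inr (Or.inr ⟨hz, h⟩)
    · refine Finset.disjoint_left.2 fun z h0 h12 => ?_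
      simp only [hP₀, hP₁, hP₂, Finset.mem_union, Finset.mem_filter] at h0 h12
      rcases h12 with ⟨-, c, h1, h2⟩ | ⟨-, -, c, -, -, h1, -⟩
      · exact h0.2 c (by rw [mul_smul, h2, h1])
      · exact h0.2 c h1
    · refine Finset.disjoint_left.2 fun z h1 h2 => ?_
      simp only [hP₁, hP₂, Finset.mem_filter, Finset.mem_product, hmemT] at h1 h2
      obtain ⟨⟨hx, hy⟩, c', hxc, hyc⟩ := h1
      obtain ⟨-, hne, c, d, hcd, hc, hd⟩ := h2
      have hu1 : z.1 * z.2 ≠ 1 := fun h1 => hne (by
        rw [eq_inv_of_mul_eq_one_left h1, (mul_self_of_orderOf hy).2.2])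
      have hc' : (z.1 * z.2) • c' = c' := by rw [mul_smul, hyc, hxc]
      obtain ⟨hs, -⟩ := hswap _ _ hx hy hne c d hcd hc hd
      rcases hS.oddInv.pre.eq_or_eq hu1 hcd hc hd hc' with rfl | rfl
      · exact hcd (hxc.symm.trans hs)
      · exact hcd (MulAction.injective z.1 (hs.trans hxc.symm))
  have hP₁card : P₁.card = Fintype.card Ω * (e * e) := by
    have h := Finset.sum_card_bipartiteAbove_eq_sum_card_bipartiteBelow
      (r := fun (z : G × G) (c : Ω) => z.1 • c = c ∧ z.2 • c = c) (s := T ×ˢ T)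
      (t := (Finset.univ : Finset Ω))
    rw [Finset.sum_const_nat (s := (Finset.univ : Finset Ω)) (m := e * e) (fun c _ => ?_), Finset.card_univ] at h
    · rw [← h, hP₁, Finset.card_filter]
      refine Finset.sum_congr rfl fun z hz => ?_
      obtain ⟨hx, -⟩ := Finset.mem_product.1 hz
      split_ifs with hex
      · obtain ⟨c, hc⟩ := hex
        refine (Finset.card_eq_one.2 ⟨c, ?_⟩).symm
        ext d
        simp only [Finset.mem_bipartiteAbove, Finset.mem_univ, true_and, Finset.mem_singleton]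
        exact ⟨fun hd => hS.oddInv.involution_fix_le_one ((hmemT _).1 hx) hc.1 hd.1, fun e => e ▸ hc⟩
      · refine (Finset.card_eq_zero.2 (Finset.eq_empty_of_forall_notMem fun d hd => ?_)).symm
        simp only [Finset.mem_bipartiteAbove, Finset.mem_univ, true_and] at hd
        exact hex ⟨d, hd⟩
    · rw [Finset.bipartiteBelow, Finset.filter_product (p := fun x : G => x • c = c)
        (q := fun x : G => x • c = c), Finset.card_product, hTc]
  have hP₂card : 2 * P₂.card =
      Fintype.card Ω * (Fintype.card Ω - 1) * (e * e - e) := by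
    have h := Finset.sum_card_bipartiteAbove_eq_sum_card_bipartiteBelow
      (r := fun (z : G × G) (p : Ω × Ω) =>
        z.1 ≠ z.2 ∧ (z.1 * z.2) • p.1 = p.1 ∧ (z.1 * z.2) • p.2 = p.2) (s := T ×ˢ T)
      (t := (Finset.univ : Finset Ω).offDiag)
    rw [Finset.sum_const_nat (s := Finset.univ.offDiag) (m := e * e - e) (fun p hp => ?_),
      Finset.offDiag_card, Finset.card_univ] at h
    · rw [Nat.mul_sub_one, ← h, hP₂, Finset.card_filter, Finset.mul_sum]
      refine Finset.sum_congr rfl fun z hz => ?_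
      obtain ⟨hx, hy⟩ := Finset.mem_product.1 hz
      split_ifs with hex
      · obtain ⟨hne, c, d, hcd, hc, hd⟩ := hex
        have hu1 : z.1 * z.2 ≠ 1 := fun h1 => hne (by
          rw [eq_inv_of_mul_eq_one_left h1, (mul_self_of_orderOf ((hmemT _).1 hy)).2.2])
        rw [mul_one, ← Finset.card_pair (show (c, d) ≠ (d, c) by simp [hcd])]
        congr 1
        ext ⟨u, v⟩
        simp only [Finset.mem_bipartiteAbove, Finset.mem_offDiag, Finset.mem_univ, true_and,
          Finset.mem_insert, Finset.mem_singleton, Prod.mk.injEq]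
        constructor
        · rintro (⟨rfl, rfl⟩ | ⟨rfl, rfl⟩)
          · exact ⟨hcd, hne, hc, hd⟩
          · exact ⟨hcd.symm, hne, hd, hc⟩
        · rintro ⟨huv, -, hu, hv⟩
          rcases hS.oddInv.pre.eq_or_eq hu1 hcd hc hd hu with rfl | rfl <;>
            rcases hS.oddInv.pre.eq_or_eq hu1 hcd hc hd hv with rfl | rfl <;>
            simp_all
      · rw [mul_zero]
        refine (Finset.card_eq_zero.2 (Finset.eq_empty_of_forall_notMem fun p hp => ?_)).symm
        simp only [Finset.mem_bipartiteAbove, Finset.mem_offDiag, Finset.mem_univ, true_and] at hp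
        exact hex ⟨hp.2.1, p.1, p.2, hp.1, hp.2.2⟩
    · simp only [Finset.mem_offDiag, Finset.mem_univ, true_and] at hp
      set Sw := Finset.univ.filter fun x : G => orderOf x = 2 ∧ x • p.1 = p.2 with hSw
      have : e * e - e = Sw.offDiag.card := by
        rw [Finset.offDiag_card, hSw, hS.card_swaps hp]
      rw [this]
      congr 1
      ext ⟨x, y⟩
      simp only [Finset.mem_bipartiteBelow, Finset.mem_product, hmemT, Finset.mem_offDiag, hSw,
        Finset.mem_filter, Finset.mem_univ, true_and]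
      constructor
      · rintro ⟨⟨hx, hy⟩, hne, h1, h2⟩
        obtain ⟨h3, h4⟩ := hswap x y hx hy hne p.1 p.2 hp h1 h2
        exact ⟨⟨hx, h3⟩, ⟨hy, h4⟩, hne⟩
      · rintro ⟨⟨hx, h3⟩, ⟨hy, h4⟩, hne⟩
        have h3' : x • p.2 = p.1 := by rw [← h3, ← mul_smul, (mul_self_of_orderOf hx).1, one_smul]
        have h4' : y • p.2 = p.1 := by rw [← h4, ← mul_smul, (mul_self_of_orderOf hy).1, one_smul]
        exact ⟨⟨hx, hy⟩, hne, by rw [mul_smul, h4, h3'], by rw [mul_smul, h4', h3]⟩
  rw [Finset.card_product, hTcard, hP₁card, hS.card_omega] at hsplit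
  rw [hS.card_omega, Nat.add_sub_cancel] at hP₂card
  have he1 : e ≤ e * e := Nat.le_mul_self e
  rw [hS.card_group, ← he]
  zify [he1] at hP₂card hsplit ⊢
  linear_combination 2 * hsplit - hP₂card

/-- The pairs over a real fixed-point-free element correspond to its centraliser. -/
theorem card_pairs_over [Fintype G] [DecidableEq Ω] [DecidableEq G] {g : G}
    (hg : IsRealFpf Ω g) :
    ((((Finset.univ.filter fun x : G => orderOf x = 2) ×ˢ
      (Finset.univ.filter fun x : G => orderOf x = 2)).filter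
        fun z : G × G => ∀ c : Ω, (z.1 * z.2) • c ≠ c).filter fun z => z.1 * z.2 = g).card =
      Nat.card (Subgroup.centralizer ({g} : Set G)) := by
  classical
  obtain ⟨hfpf, x₀, hx₀, hi₀⟩ := hg
  obtain ⟨xx, -, xinv⟩ := mul_self_of_orderOf hx₀
  have hinv := (hS.inverts hfpf hx₀ fun z hz => hS.conj_mem_of_inverts hi₀ hz).1
  have hgC : g ∈ Subgroup.centralizer ({g} : Set G) := Subgroup.mem_centralizer_singleton_iff.2 rfl
  have hinvol : ∀ t ∈ Subgroup.centralizer ({g} : Set G), orderOf (x₀ * t) = 2 := by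
    intro t ht
    refine orderOf_eq_two_of (fun h => ?_) ?_
    · have h1 : x₀ ∈ Subgroup.centralizer ({g} : Set G) := by
        rw [eq_inv_of_mul_eq_one_left h]; exact Subgroup.inv_mem _ ht
      obtain ⟨c, hc, -⟩ := hS.exists_fix hx₀
      exact hS.centralizer_semiregular hfpf h1 (mul_self_of_orderOf hx₀).2.1 c hc
    · calc x₀ * t * (x₀ * t) = (x₀ * t * x₀) * t := by group
        _ = (x₀ * t * x₀⁻¹) * t := by rw [xinv]
        _ = 1 := by rw [hinv t ht, inv_mul_cancel]
  rw [Nat.card_eq_fintype_card, Fintype.card_subtype]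
  refine Finset.card_bij' (fun z _ => x₀ * z.1) (fun t _ => (x₀ * t, x₀ * (t * g))) ?_ ?_ ?_ ?_
  · intro z hz
    simp only [Finset.mem_filter, Finset.mem_product, Finset.mem_univ, true_and] at hz ⊢
    obtain ⟨⟨⟨hx, hy⟩, -⟩, he⟩ := hz
    obtain ⟨zz, -, zinv⟩ := mul_self_of_orderOf hx
    have h1 : z.1 * g * z.1⁻¹ = g⁻¹ := by
      rw [← he, mul_inv_rev, zinv, (mul_self_of_orderOf hy).2.2, ← mul_assoc, zz, one_mul]
    have h2 : x₀ * g⁻¹ * x₀⁻¹ = g := by rw [hinv _ (Subgroup.inv_mem _ hgC), inv_inv]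
    rw [Subgroup.mem_centralizer_singleton_iff]
    calc x₀ * z.1 * g = x₀ * (z.1 * g * z.1⁻¹) * x₀⁻¹ * (x₀ * z.1) := by group
      _ = g * (x₀ * z.1) := by rw [h1, h2]
  · intro t ht
    simp only [Finset.mem_filter, Finset.mem_product, Finset.mem_univ, true_and] at ht ⊢
    have hprod : x₀ * t * (x₀ * (t * g)) = g := by
      calc x₀ * t * (x₀ * (t * g)) = (x₀ * t * (x₀ * t)) * g := by group
        _ = g := by
          rw [← sq, ← hinvol t ht, pow_orderOf_eq_one, one_mul]
    exact ⟨⟨⟨hinvol t ht, hinvol _ (Subgroup.mul_mem _ ht hgC)⟩, by rw [hprod]; exact hfpf⟩, hprod⟩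
  · intro z hz
    simp only [Finset.mem_filter] at hz
    refine Prod.ext ?_ ?_
    · show x₀ * (x₀ * z.1) = z.1
      rw [← mul_assoc, xx, one_mul]
    · show x₀ * (x₀ * z.1 * g) = z.2
      rw [← hz.2]
      have := (mul_self_of_orderOf (Finset.mem_filter.1 (Finset.mem_product.1 hz.1.1).1).2).1
      calc x₀ * (x₀ * z.1 * (z.1 * z.2)) = (x₀ * x₀) * (z.1 * z.1) * z.2 := by group
        _ = z.2 := by rw [xx, this, one_mul, one_mul]
  · intro t _
    show x₀ * (x₀ * t) = t
    rw [← mul_assoc, xx, one_mul]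

set_option maxHeartbeats 800000 in
/-- The families of real tori. -/
theorem exists_torusData : ∃ (S : Finset ℕ) (w : ℕ → ℕ),
    TorusData (Nat.card ↥(pair G a b) + 1) (Nat.card U) (Nat.card ↥(pair G a b)) S w ∧
      (∀ x ∈ S, Nat.Coprime x (Nat.card ↥(pair G a b))) ∧
      (∀ x ∈ S, ∃ A : Subgroup G, IsTorus Ω A ∧ Nat.card A = x ∧
        Nat.card (Subgroup.normalizer (A : Set G)) = w x * x) ∧
      (Nat.card U = (Nat.card ↥(pair G a b) + 1) ^ 2 → ∀ x ∈ S, w x ≠ 8) := by
  classical
  haveI := hS.finite_group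
  haveI := Fintype.ofFinite G
  haveI := Fintype.ofFinite (Subgroup G)
  set e := Nat.card ↥(pair G a b) with he
  set 𝒯 : Finset (Subgroup G) := Finset.univ.filter fun A => IsTorus Ω A with h𝒯
  have hmem𝒯 : ∀ A, A ∈ 𝒯 ↔ IsTorus Ω A := fun A => by simp [h𝒯]
  set S : Finset ℕ := 𝒯.image fun A : Subgroup G => Nat.card A with hSdef
  have hrep : ∀ x ∈ S, ∃ A : Subgroup G, IsTorus Ω A ∧ Nat.card A = x := fun x hx => by
    obtain ⟨A, hA, rfl⟩ := Finset.mem_image.1 hx
    exact ⟨A, (hmem𝒯 A).1 hA, rfl⟩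
  let R : ℕ → Subgroup G := fun x =>
    if hx : x ∈ S then (hrep x hx).choose else ⊥
  have hR : ∀ x ∈ S, IsTorus Ω (R x) ∧ Nat.card (R x) = x := fun x hx => by
    simp only [R, dif_pos hx]; exact (hrep x hx).choose_spec
  let w : ℕ → ℕ := fun x => Nat.card (Subgroup.normalizer (R x : Set G)) / x
  have hw : ∀ x ∈ S, Nat.card (Subgroup.normalizer (R x : Set G)) = w x * x ∧
      (w x = 2 ∨ w x = 4 ∨ w x = 8) ∧ w x ∣ x - 1 ∧
      (Nat.card U = (e + 1) ^ 2 → w x ≠ 8) := by
    intro x hx
    obtain ⟨hA, hAc⟩ := hR x hx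
    obtain ⟨v, hv1, hv⟩ := hS.torus_normalizer hA
    rw [hAc] at hv1 hv
    have hvx : w x = v := by
      simp only [w]
      rw [hv1, Nat.mul_div_cancel _ (by have := hS.torus_three_le hA; omega)]
    rw [hvx]
    exact ⟨hv1, hv⟩
  have hconj : ∀ A ∈ 𝒯, ∃ y : G, (R (Nat.card A)).map (MulAut.conj y).toMonoidHom = A := by
    intro A hA
    have hx : Nat.card A ∈ S := Finset.mem_image_of_mem _ hA
    obtain ⟨hR', hRc⟩ := hR _ hx
    by_contra hne
    push Not at hne
    have := hS.torus_coprime hR' ((hmem𝒯 A).1 hA) hne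
    rw [hRc, Nat.coprime_self] at this
    have := hS.torus_three_le ((hmem𝒯 A).1 hA)
    omega
  -- the number of tori of a given order
  have hnum : ∀ x ∈ S, (𝒯.filter fun A : Subgroup G => Nat.card A = x).card * (w x * x) = Nat.card G := by
    intro x hx
    obtain ⟨hA, hAc⟩ := hR x hx
    rw [← (hw x hx).1, ← card_conjugates (R x)]
    congr 2
    ext A
    simp only [Finset.mem_filter, Finset.mem_image, Finset.mem_univ, true_and]
    constructor
    · rintro ⟨hAT, hAx⟩
      obtain ⟨y, hy⟩ := hconj A hAT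
      exact ⟨y, by rw [← hy, hAx]⟩
    · rintro ⟨y, rfl⟩
      refine ⟨(hmem𝒯 _).2 (hS.torus_conj hA y), ?_⟩
      rw [← Nat.card_congr ((R x).equivMapOfInjective _ (MulAut.conj y).injective).toEquiv, hAc]
  -- summing over the real fixed-point-free elements
  set Φ : Finset G := Finset.univ.filter fun g => IsRealFpf Ω g with hΦ
  have hgroup : ∀ (f : ℕ → ℕ),
      ∑ g ∈ Φ, f (Nat.card (Subgroup.centralizer ({g} : Set G))) =
        ∑ x ∈ S, (𝒯.filter fun A : Subgroup G => Nat.card A = x).card * ((x - 1) * f x) := by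
    intro f
    rw [← Finset.sum_fiberwise_of_maps_to (g := fun g : G => Subgroup.centralizer ({g} : Set G)) (t := 𝒯)
      (fun g hg => (hmem𝒯 _).2 ⟨g, (Finset.mem_filter.1 hg).2, rfl⟩)]
    rw [← Finset.sum_fiberwise_of_maps_to (g := fun A : Subgroup G => Nat.card A) (t := S)
      (fun A hA => Finset.mem_image_of_mem _ hA)
      (f := fun A => ∑ g ∈ Φ.filter (fun g => Subgroup.centralizer ({g} : Set G) = A),
        f (Nat.card (Subgroup.centralizer ({g} : Set G))))]
    refine Finset.sum_congr rfl fun x _ => ?_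
    rw [← smul_eq_mul, ← Finset.sum_const]
    refine Finset.sum_congr rfl fun A hA => ?_
    obtain ⟨hAT, hAx⟩ := Finset.mem_filter.1 hA
    rw [Finset.sum_congr rfl (g := fun _ => f x) (fun g hg => by
      rw [(Finset.mem_filter.1 hg).2, hAx]), Finset.sum_const, smul_eq_mul, ← hAx]
    congr 1
    rw [show Φ.filter (fun g => Subgroup.centralizer ({g} : Set G) = A) =
        (Finset.univ.filter fun g => g ∈ A).erase 1 from ?_, Finset.card_erase_of_mem (by simp),
      ← Fintype.card_subtype, Nat.card_eq_fintype_card]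
    ext g
    simp only [hΦ, Finset.mem_filter, Finset.mem_univ, true_and, Finset.mem_erase]
    constructor
    · rintro ⟨⟨hg, -⟩, rfl⟩
      exact ⟨fun h1 => hg a (by rw [h1, one_smul]), Subgroup.mem_centralizer_singleton_iff.2 rfl⟩
    · rintro ⟨hg1, hgA⟩
      exact ⟨hS.torus_real ((hmem𝒯 A).1 hAT) hgA hg1, hS.torus_centralizer ((hmem𝒯 A).1 hAT) hgA hg1⟩
  -- twice the number of pairs
  have htot : 2 * ∑ x ∈ S, (x - 1) / w x = e + 1 := by
    have h1 := hS.card_fpf_pairs
    rw [← he] at h1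
    set P₀ := (((Finset.univ.filter fun x : G => orderOf x = 2) ×ˢ
      (Finset.univ.filter fun x : G => orderOf x = 2)).filter
        fun z : G × G => ∀ c : Ω, (z.1 * z.2) • c ≠ c) with hP₀
    have hto : ∀ z ∈ P₀, z.1 * z.2 ∈ Φ := by
      intro z hz
      simp only [hP₀, Finset.mem_filter, Finset.mem_product, Finset.mem_univ, true_and] at hz
      refine Finset.mem_filter.2 ⟨Finset.mem_univ _, hz.2, z.1, hz.1.1, ?_⟩
      obtain ⟨zz, -, zinv⟩ := mul_self_of_orderOf hz.1.1
      rw [mul_inv_rev, zinv, (mul_self_of_orderOf hz.1.2).2.2, ← mul_assoc, zz, one_mul]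
    rw [Finset.card_eq_sum_card_fiberwise hto] at h1
    rw [Finset.sum_congr rfl (fun g hg => hS.card_pairs_over (Finset.mem_filter.1 hg).2),
      hgroup (fun m => m)] at h1
    refine Nat.eq_of_mul_eq_mul_right (Nat.card_pos (α := G)) (Eq.trans ?_ h1)
    rw [mul_assoc, Finset.sum_mul]
    congr 1
    refine Finset.sum_congr rfl fun x hx => ?_
    rw [← hnum x hx]
    have := Nat.mul_div_cancel' (hw x hx).2.2.1
    calc (x - 1) / w x * ((𝒯.filter fun A : Subgroup G => Nat.card A = x).card * (w x * x))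
        = (𝒯.filter fun A : Subgroup G => Nat.card A = x).card * ((w x * ((x - 1) / w x)) * x) := by
          ring
      _ = _ := by rw [this]
  refine ⟨S, w, ⟨?_, ?_, ?_, fun x hx => (hw x hx).2.1, fun x hx => (hw x hx).2.2.1, ?_, htot, ?_⟩,
    ?_, fun x hx => ⟨R x, (hR x hx).1, (hR x hx).2, (hw x hx).1⟩, fun hr x hx => (hw x hx).2.2.2 hr⟩
  · intro x hx; rw [← (hR x hx).2]; exact hS.torus_three_le (hR x hx).1
  · intro x hx; rw [← (hR x hx).2]; exact hS.torus_odd (hR x hx).1
  · intro x hx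
    rw [← (hR x hx).2, ← hS.card_omega]
    exact hS.torus_card_dvd (hR x hx).1
  · intro x hx y hy hne
    obtain ⟨hA, hAc⟩ := hR x hx
    obtain ⟨hB, hBc⟩ := hR y hy
    rw [← hAc, ← hBc]
    refine hS.torus_coprime hA hB fun g hg => hne ?_
    rw [← hAc, ← hBc, ← hg]
    exact Nat.card_congr ((R x).equivMapOfInjective _ (MulAut.conj g).injective).toEquiv
  · -- the bound by the number of fixed-point-free elements
    have hD := hS.oddInv.pre.card_fpf hS.ne
    have hle : Φ.card ≤ Nat.card {g : G // ∀ c : Ω, g • c ≠ c} := by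
      rw [Nat.card_eq_fintype_card, Fintype.card_subtype]
      exact Finset.card_le_card fun g hg => Finset.mem_filter.2
        ⟨Finset.mem_univ _, (Finset.mem_filter.1 hg).2.1⟩
    rw [Finset.card_eq_sum_ones, hgroup (fun _ => 1)] at hle
    rw [hS.card_omega, Nat.add_sub_cancel] at hD
    set D := Nat.card {g : G // ∀ c : Ω, g • c ≠ c}
    have hG0 : (0 : ℚ) < Nat.card G := by exact_mod_cast Nat.card_pos
    have hG : (Nat.card G : ℚ) = (Nat.card U + 1) * Nat.card U * e := by exact_mod_cast hS.card_group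
    have hterm : ∀ x ∈ S, (((x - 1) / w x : ℕ) : ℚ) / x * Nat.card G =
        (((𝒯.filter fun A : Subgroup G => Nat.card A = x).card * ((x - 1) * 1) : ℕ) : ℚ) := by
      intro x hx
      have h3 : 3 ≤ x := by rw [← (hR x hx).2]; exact hS.torus_three_le (hR x hx).1
      have hc : (𝒯.filter fun A : Subgroup G => Nat.card A = x).card * ((x - 1) * 1) * x =
          (x - 1) / w x * Nat.card G := by
        rw [← hnum x hx]
        conv_lhs => rw [← Nat.mul_div_cancel' (hw x hx).2.2.1]
        ring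
      rw [div_mul_eq_mul_div, div_eq_iff (by positivity)]
      exact_mod_cast hc.symm
    have hsum : (∑ x ∈ S, (((x - 1) / w x : ℕ) : ℚ) / x) * Nat.card G ≤ D := by
      rw [Finset.sum_mul, Finset.sum_congr rfl hterm, ← Nat.cast_sum]
      exact_mod_cast hle
    have hD' : (2 : ℚ) * D + (Nat.card U + 1) * Nat.card U + 2 =
        Nat.card G + 2 * (Nat.card U + 1) := by exact_mod_cast hD
    have hh0 : (0 : ℚ) < Nat.card U := by exact_mod_cast Nat.card_pos
    have he0 : (0 : ℚ) < e := by exact_mod_cast Nat.card_pos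
    refine le_trans ((le_div_iff₀ hG0).2 hsum) (le_of_eq ?_)
    rw [show (D : ℚ) = ((Nat.card G : ℚ) + 2 * (Nat.card U + 1) -
      (Nat.card U + 1) * Nat.card U - 2) / 2 by linarith, hG]
    field_simp
    ring
  · intro x hx; rw [← (hR x hx).2]; exact hS.torus_coprime_e (hR x hx).1

end Setting

end CfsgLib.ZT
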