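import Mathlib
import Cfsg.Agent.Lib.SuzukiTwo.TypeA
import Cfsg.Agent.Lib.SuzukiTwo.Center
import Cfsg.Agent.Lib.SuzukiTwo.AdditiveMaps
import Cfsg.Agent.Lib.SuzukiTwo.ExtensionEquiv

/-!
# Squares in a 2-group with a cyclic group of automorphisms regular on involutions are central
-/

set_option autoImplicit false
set_option linter.style.haveILetI false
set_option linter.unusedSectionVars false

open scoped commutatorElement

namespace CfsgLib.ZT

open CfsgLib.SuzukiTwo

variable {P : Type*} [Group P] {K : Subgroup (MulAut P)}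

/-- Automorphisms in `K` other than the identity fix no nontrivial coset of an invariant
subgroup. -/
theorem mem_of_coset_fixed (hR : RegularInv K) {S : Subgroup P} (hS : KInv K S) {k : MulAut P}
    (hk : k ∈ K) (hk1 : k ≠ 1) {y : P} (hy : y⁻¹ * k y ∈ S) : y ∈ S := by
  haveI := hR.fin
  let φ : S → S := fun x => ⟨(x : P) * (k x)⁻¹, S.mul_mem x.2 (S.inv_mem (hS k hk x x.2))⟩
  have hinj : Function.Injective φ := by
    intro x x' he
    have he' : (x : P) * (k x)⁻¹ = (x' : P) * (k x')⁻¹ := congrArg Subtype.val he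
    have hfix : k ((x' : P)⁻¹ * x) = (x' : P)⁻¹ * x := by
      rw [map_mul, map_inv]
      calc (k x')⁻¹ * k x = (x' : P)⁻¹ * ((x' : P) * (k x')⁻¹) * k x := by group
        _ = (x' : P)⁻¹ * x := by rw [← he']; group
    exact Subtype.ext (inv_mul_eq_one.1 (fixedPointFree hR hk hk1 hfix)).symm
  obtain ⟨⟨x, hx⟩, hxe⟩ := (Finite.injective_iff_surjective.1 hinj) ⟨_, hy⟩
  have hxe' : x * (k x)⁻¹ = y⁻¹ * k y := congrArg Subtype.val hxe
  have hfix : k (y * x) = y * x := by
    rw [map_mul]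
    calc k y * k x = y * (y⁻¹ * k y) * k x := by group
      _ = y * x := by rw [← hxe']; group
  rw [eq_inv_of_mul_eq_one_left (fixedPointFree hR hk hk1 hfix)]
  exact S.inv_mem hx

/-- An invariant subgroup of index at most two is everything. -/
theorem eq_top_of_mul_mem (hR : RegularInv K) {S : Subgroup P} (hS : KInv K S)
    (h2 : ∀ u v : P, u ∉ S → v ∉ S → u⁻¹ * v ∈ S) (y : P) : y ∈ S := by
  obtain ⟨k, hk, hk1⟩ := exists_ne_one_K hR
  by_contra hy
  have hky : k y ∉ S := fun h => hy (by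
    have := hS k⁻¹ (K.inv_mem hk) _ h
    simpa using this)
  exact hy (mem_of_coset_fixed hR hS hk hk1 (h2 y (k y) hy hky))

theorem center_eq (hR : RegularInv K) (hna : ∃ x y : P, x * y ≠ y * x) :
    Subgroup.center P = omegaCenter P :=
  le_antisymm (fun z hz => ⟨hz, center_sq_eq_one hR hna hz⟩) (fun _ hz => hz.1)

theorem omega_normal : (omegaCenter P).Normal :=
  ⟨fun n hn g => by rw [omega_conj hn]; exact hn⟩

section expFour

variable (hR : RegularInv K) {A : Subgroup P} [A.Normal] (hA : HomoData K A 2)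
  (hC : Subgroup.centralizer (A : Set P) = A)

include hR hA

theorem sq_omega {a : P} (ha : a ∈ A) : a * a ∈ omegaCenter P := by
  have := pi_mem hA hR ha
  rwa [show (2 : ℕ) ^ (2 - 1) = 2 by norm_num, sq] at this

theorem exists_root {u : P} (hu : u ∈ omegaCenter P) : ∃ a ∈ A, a * a = u := by
  obtain ⟨a, ha, he⟩ := pi_surj hA hR hu
  rw [show (2 : ℕ) ^ (2 - 1) = 2 by norm_num, sq] at he
  exact ⟨a, ha, he⟩

theorem dev_omega {a : P} (ha : a ∈ A) (y : P) : ⁅y, a⁆ ∈ omegaCenter P := by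
  refine mem_omega_of_sq hR ?_
  rw [← dev_mul_right hA ha ha]
  exact commutatorElement_eq_one_iff_mul_comm.2
    (Subgroup.mem_center_iff.1 (sq_omega hR hA ha).1 y)

theorem comm_mul_right' {a b : P} (ha : a ∈ A) (hb : b ∈ A) (y : P) :
    ⁅y, a * b⁆ = ⁅y, a⁆ * ⁅y, b⁆ := dev_mul_right hA ha hb y

theorem dev_eq_of_sq {a b : P} (ha : a ∈ A) (hb : b ∈ A) (h : a * a = b * b) (y : P) :
    ⁅y, a⁆ = ⁅y, b⁆ := by
  have hw : a * b⁻¹ ∈ omegaCenter P := mem_omega_of_sq hR (by
    calc a * b⁻¹ * (a * b⁻¹) = a * (b⁻¹ * a) * b⁻¹ := by group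
      _ = a * (a * b⁻¹) * b⁻¹ := by rw [hA.comm _ (A.inv_mem hb) a ha]
      _ = (a * a) * (b * b)⁻¹ := by group
      _ = 1 := by rw [h, mul_inv_cancel])
  conv_lhs => rw [show a = a * b⁻¹ * b by group]
  rw [comm_mul_right' hR hA (A.mul_mem ha (A.inv_mem hb)) hb,
    show ⁅y, a * b⁻¹⁆ = 1 from commutatorElement_eq_one_iff_mul_comm.2
      (Subgroup.mem_center_iff.1 hw.1 y), one_mul]

include hC

theorem sq_mem_A (y : P) : y * y ∈ A := by
  rw [← hC]
  refine Subgroup.mem_centralizer_iff.2 fun a ha => ?_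
  have hc := dev_omega hR hA ha y
  have h1 : y * a * y⁻¹ = ⁅y, a⁆ * a := by rw [commutatorElement_def]; group
  have h2 : y * y * a * (y * y)⁻¹ = a := by
    calc y * y * a * (y * y)⁻¹ = y * (y * a * y⁻¹) * y⁻¹ := by group
      _ = y * ⁅y, a⁆ * y⁻¹ * (y * a * y⁻¹) := by rw [h1]; group
      _ = ⁅y, a⁆ * (⁅y, a⁆ * a) := by rw [omega_conj hc y, h1]
      _ = a := by rw [← mul_assoc, hc.2, one_mul]
  calc a * (y * y) = y * y * a * (y * y)⁻¹ * (y * y) := by rw [h2]
    _ = y * y * a := by group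

theorem comm_mem_A (u v : P) : ⁅u, v⁆ ∈ A := by
  rw [commutatorElement_eq_sq_prod]
  refine A.mul_mem (A.mul_mem (sq_mem_A hR hA hC _) ?_) (sq_mem_A hR hA hC _)
  have := (inferInstance : A.Normal).conj_mem _ (sq_mem_A hR hA hC u⁻¹) v⁻¹
  rwa [inv_inv] at this

/-- The square of a commutator is additive in the right variable. -/
theorem commSq_mul_right (y w w' : P) :
    ⁅y, w * w'⁆ * ⁅y, w * w'⁆ = (⁅y, w⁆ * ⁅y, w⁆) * (⁅y, w'⁆ * ⁅y, w'⁆) := by
  set u := ⁅y, w⁆ with hu
  set v := ⁅y, w'⁆ with hv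
  have huA : u ∈ A := comm_mem_A hR hA hC y w
  have hvA : v ∈ A := comm_mem_A hR hA hC y w'
  have hv' : w * v * w⁻¹ ∈ A := (inferInstance : A.Normal).conj_mem _ hvA w
  have e : ⁅y, w * w'⁆ = u * (w * v * w⁻¹) := by
    rw [hu, hv]; simp only [commutatorElement_def]; group
  rw [e]
  calc u * (w * v * w⁻¹) * (u * (w * v * w⁻¹)) = u * (w * v * w⁻¹ * u) * (w * v * w⁻¹) := by group
    _ = u * (u * (w * v * w⁻¹)) * (w * v * w⁻¹) := by rw [hA.comm _ hv' u huA]
    _ = u * u * (w * (v * v) * w⁻¹) := by group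
    _ = _ := by rw [omega_conj (sq_omega hR hA hvA)]

/-- All squares are central when the maximal abelian invariant normal subgroup has exponent 4. -/
theorem sq_omega_of_expFour (g : P) : g * g ∈ omegaCenter P := by
  classical
  haveI := hR.fin
  set W := omegaCenter P with hW
  obtain ⟨e₀, he₀, he₀1⟩ := exists_omega_ne_one hR
  obtain ⟨F, _, _, ψ, hchar, hFcard, -, hψ⟩ :=
    exists_field_regular (E := W) (fun x => Subtype.ext x.2.2) (omegaAct K)
      (fun k l x => Subtype.ext (K_comm hR k.2 l.2 x)) (e := ⟨e₀, he₀⟩)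
      (fun h => he₀1 (congrArg Subtype.val h))
      (fun x hx => by
        obtain ⟨k, hk, -⟩ := hR.reg e₀ x he₀1 he₀.2 (fun h => hx (Subtype.ext h)) x.2.2
        exact ⟨k, Subtype.ext hk⟩)
  haveI := hchar
  choose lam hlam0 hlam using hψ
  let toW : F → P := fun v => (ψ (Multiplicative.ofAdd v) : P)
  have toW_mem : ∀ v, toW v ∈ W := fun v => (ψ _).2
  have toW_add : ∀ v v', toW (v + v') = toW v * toW v' := fun v v' => by
    simp only [toW, ofAdd_add, map_mul, Subgroup.coe_mul]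
  have toW_inj : Function.Injective toW := fun v v' h =>
    Multiplicative.ofAdd.injective (ψ.injective (Subtype.ext h))
  have toW_zero : toW 0 = 1 := by simp [toW]
  have toW_surj : ∀ u ∈ W, ∃ v, toW v = u := fun u hu =>
    ⟨Multiplicative.toAdd (ψ.symm ⟨u, hu⟩), by simp [toW]⟩
  have toW_act : ∀ (k : K) (v : F), (k : MulAut P) (toW v) = toW (lam k * v) := fun k v =>
    congrArg Subtype.val (hlam k v)
  choose rt hrt hrte using fun v : F => exists_root hR hA (toW_mem v)
  choose of hof using fun u : W => toW_surj u u.2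
  -- the endomorphism of `F` induced by `y`
  let D : P → F → F := fun y v => of ⟨⁅y, rt v⁆, dev_omega hR hA (hrt v) y⟩
  have hD : ∀ (y : P) {a : P}, a ∈ A → ∀ {v : F}, a * a = toW v → toW (D y v) = ⁅y, a⁆ := by
    intro y a ha v hv
    rw [hof]
    exact dev_eq_of_sq hR hA (hrt v) ha (by rw [hrte, hv]) y
  have hD0 : ∀ y, D y 0 = 0 := fun y => toW_inj (by
    rw [hD y A.one_mem (by rw [one_mul, toW_zero]), toW_zero, commutatorElement_one_right])
  have hDadd : ∀ y v v', D y (v + v') = D y v + D y v' := fun y v v' => toW_inj (by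
    rw [toW_add, hD y (A.mul_mem (hrt v) (hrt v')) (v := v + v') ?_, hD y (hrt v) (hrte v),
      hD y (hrt v') (hrte v'), comm_mul_right' hR hA (hrt v) (hrt v')]
    rw [toW_add, ← hrte v, ← hrte v']
    calc rt v * rt v' * (rt v * rt v') = rt v * (rt v' * rt v) * rt v' := by group
      _ = rt v * (rt v * rt v') * rt v' := by rw [hA.comm _ (hrt v') _ (hrt v)]
      _ = _ := by group)
  have hDmul : ∀ y y' v, D (y * y') v = D y v + D y' v := fun y y' v => toW_inj (by
    rw [toW_add, hD (y * y') (hrt v) (hrte v), hD y (hrt v) (hrte v), hD y' (hrt v) (hrte v)]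
    have h1 : ⁅y * y', rt v⁆ = y * ⁅y', rt v⁆ * y⁻¹ * ⁅y, rt v⁆ := by
      simp only [commutatorElement_def]; group
    rw [h1, omega_conj (dev_omega hR hA (hrt v) y')]
    exact (Subgroup.mem_center_iff.1 (dev_omega hR hA (hrt v) y').1 _).symm)
  have hDact : ∀ (k : K) y v, D ((k : MulAut P) y) (lam k * v) = lam k * D y v := fun k y v =>
    toW_inj (by
      rw [hD _ (hA.inv _ k.2 _ (hrt v)) (by rw [← map_mul, hrte, toW_act]), ← toW_act,
        hD y (hrt v) (hrte v), map_commutatorElement])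
  -- coefficients
  haveI : Finite (F ≃+* F) := Finite.of_injective _ DFunLike.coe_injective
  letI : Fintype (F ≃+* F) := Fintype.ofFinite _
  choose c hc using fun y => exists_autos_of_additive (AddMonoidHom.mk' (D y) (hDadd y))
  replace hc : ∀ y v, D y v = ∑ σ, c y σ * σ v := hc
  have huniq : ∀ (C C' : (F ≃+* F) → F), (∀ v, ∑ σ, C σ * σ v = ∑ σ, C' σ * σ v) → C = C' := by
    intro C C' h
    funext σ
    refine sub_eq_zero.1 (Fintype.linearIndependent_iff.1 (linearIndependent_autos (F := F))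
      (fun σ => C σ - C' σ) ?_ σ)
    funext x
    simpa [Finset.sum_apply, sub_mul, sub_eq_zero] using h x
  have hcmul : ∀ y y' σ, c (y * y') σ = c y σ + c y' σ := fun y y' σ =>
    congrFun (huniq (c (y * y')) (fun σ => c y σ + c y' σ) fun v => by
      rw [← hc, hDmul, hc, hc, ← Finset.sum_add_distrib]
      simp only [add_mul]) σ
  have hcact : ∀ (k : K) y σ, c ((k : MulAut P) y) σ * σ (lam k) = lam k * c y σ := fun k y σ =>
    congrFun (huniq (fun σ => c ((k : MulAut P) y) σ * σ (lam k)) (fun σ => lam k * c y σ) fun v => by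
      have h1 := hDact k y v
      rw [hc, hc, Finset.mul_sum] at h1
      calc ∑ σ, c ((k : MulAut P) y) σ * σ (lam k) * σ v
          = ∑ σ, c ((k : MulAut P) y) σ * σ (lam k * v) :=
            Finset.sum_congr rfl fun σ _ => by rw [map_mul, mul_assoc]
        _ = _ := h1.trans (Finset.sum_congr rfl fun σ _ => (mul_assoc _ _ _).symm)) σ
  have hcA : ∀ a ∈ A, ∀ σ, c a σ = 0 := fun a ha σ =>
    congrFun (huniq (c a) (fun _ => 0) fun v => by
      rw [← hc]
      simp only [zero_mul, Finset.sum_const_zero]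
      refine toW_inj ?_
      rw [hD a (hrt v) (hrte v), toW_zero]
      exact commutatorElement_eq_one_iff_mul_comm.2 (hA.comm a ha _ (hrt v))) σ
  have hcker : ∀ y, (∀ σ, c y σ = 0) → y ∈ A := by
    intro y h
    rw [← hC]
    refine Subgroup.mem_centralizer_iff.2 fun a ha => ?_
    obtain ⟨v, hv⟩ := toW_surj _ (sq_omega hR hA ha)
    have h0 : D y v = 0 := by rw [hc]; simp [h]
    have h1 := hD y ha hv.symm
    rw [h0, toW_zero] at h1
    exact (commutatorElement_eq_one_iff_mul_comm.1 h1.symm).symm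
  by_cases hAtop : A = ⊤
  · exact sq_omega hR hA (hAtop ▸ Subgroup.mem_top g)
  -- a minimal invariant subgroup above `A`
  obtain ⟨M, ⟨hAM, hMi⟩, hMmin⟩ :=
    (Set.toFinite {M : Subgroup P | A < M ∧ KInv K M}).exists_minimal
      ⟨⊤, lt_top_iff_ne_top.2 hAtop, fun _ _ _ _ => Subgroup.mem_top _⟩
  obtain ⟨y₀, hy₀, hy₀A⟩ := SetLike.exists_of_lt hAM
  have hinj : ∀ σ, (∃ y ∈ M, c y σ ≠ 0) → ∀ y ∈ M, c y σ = 0 → y ∈ A := by
    intro σ ⟨y₁, hy₁, hne⟩ y hy hy0
    by_contra hyA
    let N : Subgroup P :=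
      { carrier := {y | y ∈ M ∧ c y σ = 0}
        one_mem' := ⟨M.one_mem, hcA 1 A.one_mem σ⟩
        mul_mem' := fun {u v} hu hv => ⟨M.mul_mem hu.1 hv.1, by rw [hcmul, hu.2, hv.2, add_zero]⟩
        inv_mem' := fun {u} hu => ⟨M.inv_mem hu.1, by
          have := hcmul u u⁻¹ σ
          rw [mul_inv_cancel, hcA 1 A.one_mem σ, hu.2, zero_add] at this
          exact this.symm⟩ }
    have hle : M ≤ N := hMmin (y := N) ⟨lt_of_le_of_ne
      (fun a ha => (⟨hAM.le ha, hcA a ha σ⟩ : a ∈ M ∧ c a σ = 0))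
      (fun h => hyA (h.symm ▸ (⟨hy, hy0⟩ : y ∈ M ∧ c y σ = 0) : y ∈ A)),
      fun k hk u hu => ⟨hMi k hk u hu.1, by
        have := hcact ⟨k, hk⟩ u σ
        rw [hu.2, mul_zero] at this
        exact (mul_eq_zero.1 this).resolve_right
          ((map_ne_zero σ).2 (hlam0 ⟨k, hk⟩))⟩⟩ (fun u hu => hu.1)
    exact hne (hle hy₁).2
  obtain ⟨τ, hτ⟩ : ∃ τ, c y₀ τ ≠ 0 := by
    by_contra h
    push Not at h
    exact hy₀A (hcker y₀ h)
  have hker : ∀ (k : K) σ, c y₀ σ ≠ 0 → c ((k : MulAut P) y₀) σ = c y₀ σ → k = 1 := by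
    intro k σ hσ h
    by_contra hk
    refine hy₀A (mem_of_coset_fixed hR hA.inv k.2 (fun e => hk (Subtype.ext e))
      (hinj σ ⟨y₀, hy₀, hσ⟩ _ (M.mul_mem (M.inv_mem hy₀) (hMi _ k.2 _ hy₀)) ?_))
    have h1 := hcmul y₀ (y₀⁻¹ * (k : MulAut P) y₀) σ
    rw [mul_inv_cancel_left, h] at h1
    simpa using h1.symm
  -- the ratio attained on the orbit of `y₀`
  have horb : ∀ σ, c y₀ σ ≠ 0 → ∀ u : F, u ≠ 0 → ∃ k : K, c ((k : MulAut P) y₀) σ = u := by
    intro σ hσ
    let f : K → {u : F // u ≠ 0} := fun k => ⟨c ((k : MulAut P) y₀) σ, fun h => by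
      have := hcact k y₀ σ
      rw [h, zero_mul] at this
      exact mul_ne_zero (hlam0 k) hσ this.symm⟩
    have hf : Function.Injective f := by
      intro k l h
      have h' : c ((k : MulAut P) y₀) σ = c ((l : MulAut P) y₀) σ := congrArg Subtype.val h
      refine (inv_mul_eq_one.1 (hker (l⁻¹ * k) σ hσ ?_)).symm
      have e1 := hcact l (((l⁻¹ * k : K) : MulAut P) y₀) σ
      have e2 := hcact l y₀ σ
      have e3 : (l : MulAut P) (((l⁻¹ * k : K) : MulAut P) y₀) = (k : MulAut P) y₀ := by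
        rw [← MulAut.mul_apply, ← Subgroup.coe_mul, mul_inv_cancel_left]
      rw [e3, h', e2] at e1
      exact (mul_left_cancel₀ (hlam0 l) e1).symm
    have hsurj : Function.Surjective f := by
      refine (hf.bijective_of_nat_card_le ?_).2
      rw [Nat.card_eq_fintype_card, Fintype.card_subtype_compl, Fintype.card_subtype_eq, hFcard,
        ← card_K hR, Nat.add_sub_cancel]
    intro u hu
    obtain ⟨k, hk⟩ := hsurj ⟨u, hu⟩
    exact ⟨k, congrArg Subtype.val hk⟩
  have hmono : ∀ σ, c y₀ σ ≠ 0 → σ ≠ RingEquiv.refl F := by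
    intro σ hσ h
    obtain ⟨k, hk, hk1⟩ := exists_ne_one_K hR
    refine hk1 (congrArg Subtype.val (hker ⟨k, hk⟩ σ hσ ?_))
    have := hcact ⟨k, hk⟩ y₀ σ
    rw [h, RingEquiv.refl_apply, mul_comm (lam _)] at this
    rw [h]
    exact mul_right_cancel₀ (hlam0 ⟨k, hk⟩) this
  -- multiplicativity of the eigenvalues
  have hlam_mul : ∀ k l : K, lam (k * l) = lam k * lam l := fun k l => by
    have h1 := toW_act (k * l) 1
    rw [Subgroup.coe_mul, MulAut.mul_apply, toW_act, toW_act, mul_one, mul_one] at h1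
    exact (toW_inj h1).symm
  have hlam_surj : ∀ u : F, u ≠ 0 → ∃ k : K, lam k = u := by
    intro u hu
    have h0 : toW 1 ≠ 1 := fun h => one_ne_zero (toW_inj (h.trans toW_zero.symm))
    obtain ⟨k, hk, -⟩ := hR.reg (toW 1) (toW u) h0 (toW_mem 1).2
      (fun h => hu (toW_inj (h.trans toW_zero.symm))) (toW_mem u).2
    rw [toW_act, mul_one] at hk
    exact ⟨k, toW_inj hk⟩
  have hratio : ∀ (k : K) σ, c ((k : MulAut P) y₀) σ = lam k / σ (lam k) * c y₀ σ := fun k σ => by
    rw [div_mul_eq_mul_div, eq_div_iff ((map_ne_zero σ).2 (hlam0 k)), hcact]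
  have honly : ∀ σ, c y₀ σ ≠ 0 → σ = τ := by
    intro σ hσ
    by_contra hne
    -- the map `c · τ ↦ c · σ`
    have hex : ∀ u : F, ∃ y ∈ M, c y τ = u * c y₀ τ := by
      intro u
      by_cases hu : u = 0
      · exact ⟨1, M.one_mem, by rw [hu, zero_mul, hcA 1 A.one_mem]⟩
      · obtain ⟨k, hk⟩ := horb τ hτ (u * c y₀ τ) (mul_ne_zero hu hτ)
        exact ⟨_, hMi _ k.2 _ hy₀, hk⟩
    choose Y hY hYe using hex
    let ρ : F → F := fun u => c (Y u) σ / c y₀ σ
    have hρ : ∀ y ∈ M, ρ (c y τ / c y₀ τ) = c y σ / c y₀ σ := by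
      intro y hy
      set y' := Y (c y τ / c y₀ τ) with hy'
      have h1 : c y' τ = c y τ := by rw [hy', hYe, div_mul_cancel₀ _ hτ]
      have hm : y⁻¹ * y' ∈ M := M.mul_mem (M.inv_mem hy) (hY _)
      have h2 : y⁻¹ * y' ∈ A := hinj τ ⟨y₀, hy₀, hτ⟩ _ hm (by
        have := hcmul y (y⁻¹ * y') τ
        rw [mul_inv_cancel_left, h1] at this
        simpa using this.symm)
      have h3 := hcmul y (y⁻¹ * y') σ
      rw [mul_inv_cancel_left, hcA _ h2, add_zero] at h3
      show c y' σ / c y₀ σ = _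
      rw [h3]
    have hρadd : ∀ u v, ρ (u + v) = ρ u + ρ v := by
      intro u v
      have := hρ _ (M.mul_mem (hY u) (hY v))
      rwa [hcmul, hYe, hYe, ← add_mul, mul_div_cancel_right₀ _ hτ, hcmul, add_div] at this
    have hρk : ∀ k : K, ρ (lam k / τ (lam k)) = lam k / σ (lam k) := by
      intro k
      have := hρ _ (hMi _ k.2 _ hy₀)
      rwa [hratio, hratio, mul_div_cancel_right₀ _ hτ, mul_div_cancel_right₀ _ hσ] at this
    have hρmul : ∀ u v, u ≠ 0 → v ≠ 0 → ρ (u * v) = ρ u * ρ v := by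
      intro u v hu hv
      obtain ⟨k, hk⟩ := horb τ hτ (u * c y₀ τ) (mul_ne_zero hu hτ)
      obtain ⟨l, hl⟩ := horb τ hτ (v * c y₀ τ) (mul_ne_zero hv hτ)
      rw [hratio] at hk hl
      rw [← mul_right_cancel₀ hτ hk, ← mul_right_cancel₀ hτ hl, hρk, hρk,
        ← mul_div_mul_comm, ← map_mul, ← hlam_mul, hρk, hlam_mul, map_mul, mul_div_mul_comm]
    have hρ0 : ρ 0 = 0 := by
      have h := hρadd 0 0
      rw [add_zero] at h
      simpa using h
    -- `ρ u * σ u = u * ρ (τ u)`
    have heq : ∀ u, ρ u * σ u = u * ρ (τ u) := by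
      intro u
      by_cases hu : u = 0
      · simp [hu]
      obtain ⟨k, rfl⟩ := hlam_surj u hu
      have h1 := hρmul (lam k / τ (lam k)) (τ (lam k))
        (div_ne_zero (hlam0 k) ((map_ne_zero τ).2 (hlam0 k))) ((map_ne_zero τ).2 (hlam0 k))
      rw [div_mul_cancel₀ _ ((map_ne_zero τ).2 (hlam0 k)), hρk] at h1
      rw [h1]
      have := (map_ne_zero σ).2 (hlam0 k)
      field_simp
    have hρ1 : ρ 1 = 1 := by
      have h1 := hρk 1
      have h2 : lam 1 = 1 := by
        have := hlam_mul 1 1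
        rw [one_mul] at this
        exact (mul_eq_left₀ (hlam0 1)).1 this.symm
      simpa [h2] using h1
    have hρinj : ∀ u, ρ u = 0 → u = 0 := by
      intro u hu
      by_contra hu0
      have h := hρmul u u⁻¹ hu0 (inv_ne_zero hu0)
      rw [mul_inv_cancel₀ hu0, hρ1, hu, zero_mul] at h
      exact one_ne_zero h
    have hsum : ∀ u, ρ u + σ u = u + ρ (τ u) := by
      intro u
      have h1 := heq (u + 1)
      rw [hρadd, hρ1, map_add, map_add, hρadd, map_one, map_one, hρ1] at h1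
      linear_combination h1 - heq u
    have hor : ∀ u, ρ u = u ∨ τ u = u := by
      intro u
      have h : (ρ u - u) * (ρ u - ρ (τ u)) = 0 := by
        linear_combination ρ u * hsum u - heq u
      rcases mul_eq_zero.1 h with h | h
      · exact Or.inl (sub_eq_zero.1 h)
      · refine Or.inr ?_
        have h2 := hρadd (u - τ u) (τ u)
        rw [sub_add_cancel, sub_eq_zero.1 h] at h2
        exact (sub_eq_zero.1 (hρinj _ (by simpa using h2.symm))).symm
    obtain ⟨u, hu⟩ : ∃ u, ρ u ≠ u := by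
      by_contra hall
      push Not at hall
      refine hne (RingEquiv.ext fun u => ?_)
      by_cases hu0 : u = 0
      · simp [hu0]
      have h := heq u
      rw [hall, hall] at h
      exact mul_left_cancel₀ hu0 h
    obtain ⟨v, hv⟩ : ∃ v, τ v ≠ v := by
      by_contra hall
      push Not at hall
      exact hmono τ hτ (RingEquiv.ext fun v => by simp [hall v])
    have hu' := (hor u).resolve_left hu
    have hv' := (hor v).resolve_right hv
    rcases hor (u + v) with h | h
    · rw [hρadd, hv'] at h; exact hu (add_right_cancel h)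
    · rw [map_add, hu'] at h; exact hv (add_left_cancel h)
  -- on `M` the deviation is one monomial
  set δ : P → F := fun y => c y τ with hδ
  have hδne : ∀ y ∈ M, y ∉ A → δ y ≠ 0 := fun y hy hyA h => hyA (hinj τ ⟨y₀, hy₀, hτ⟩ y hy h)
  have hmon : ∀ y ∈ M, ∀ v, D y v = δ y * τ v := by
    intro y hy v
    rw [hc, Finset.sum_eq_single τ (fun σ _ hne => ?_) (fun h => absurd (Finset.mem_univ τ) h)]
    suffices c y σ = 0 by rw [this, zero_mul]
    by_contra h0
    refine hne (honly σ fun h => hy₀A (hinj σ ⟨y, hy, h0⟩ y₀ hy₀ h))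
  have hfix : ∀ v, τ v = v → v = 0 ∨ v = 1 := by
    intro v hv
    by_cases hv0 : v = 0
    · exact Or.inl hv0
    right
    obtain ⟨k, rfl⟩ := hlam_surj v hv0
    have hk1 := hker k τ hτ (by rw [hratio, hv, div_self (hlam0 k), one_mul])
    subst hk1
    have := hlam_mul 1 1
    rw [one_mul] at this
    exact (mul_eq_left₀ (hlam0 1)).1 this.symm
  -- squares of `M`
  have hM2 : ∀ y ∈ M, y * y ∈ W := by
    intro y hy
    by_cases hyA : y ∈ A
    · exact sq_omega hR hA hyA
    obtain ⟨v, hv⟩ := toW_surj _ (sq_omega hR hA (sq_mem_A hR hA hC y))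
    refine mem_omega_of_sq hR ?_
    have h1 := hD y (sq_mem_A hR hA hC y) hv.symm
    rw [show ⁅y, y * y⁆ = 1 by rw [commutatorElement_def]; group, ← toW_zero] at h1
    have h2 := toW_inj h1
    rw [hmon y hy] at h2
    rcases mul_eq_zero.1 h2 with h | h
    · exact absurd h (hδne y hy hyA)
    · rw [← hv, (map_eq_zero τ).1 h, toW_zero]
  have hMc : ∀ y ∈ M, ∀ y' ∈ M, ⁅y, y'⁆ ∈ W := by
    intro y hy y' hy'
    rw [commutatorElement_eq_sq_prod, show y'⁻¹ * (y⁻¹ * y⁻¹) * y' = y⁻¹ * y⁻¹ by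
      have := omega_conj (hM2 _ (M.inv_mem hy)) y'⁻¹
      rwa [inv_inv] at this]
    exact W.mul_mem (W.mul_mem (hM2 _ (M.mul_mem hy hy')) (hM2 _ (M.inv_mem hy)))
      (hM2 _ (M.inv_mem hy'))
  -- the value of the commutator squares
  let sq2 : P → P → F := fun y w => of ⟨⁅y, w⁆ * ⁅y, w⁆, sq_omega hR hA (comm_mem_A hR hA hC y w)⟩
  have hsq2 : ∀ y w, toW (sq2 y w) = ⁅y, w⁆ * ⁅y, w⁆ := fun y w => hof _
  have hR1 : ∀ y ∈ M, ∀ w, D y (sq2 y w) = sq2 y w := by
    intro y hy w
    refine toW_inj ?_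
    rw [hD y (comm_mem_A hR hA hC y w) (hsq2 y w).symm, hsq2]
    set v := ⁅y, w⁆ with hv
    have hvA := comm_mem_A hR hA hC y w
    have h1 : v * (y * v * y⁻¹) = 1 := by
      have h2 : ⁅w, y * y⁆ = 1 := commutatorElement_eq_one_iff_mul_comm.2
        (Subgroup.mem_center_iff.1 (hM2 y hy).1 w)
      have h3 : y * v * y⁻¹ * v = (⁅w, y * y⁆)⁻¹ := by
        rw [hv]
        simp only [commutatorElement_def, mul_inv_rev, inv_inv, mul_assoc, inv_mul_cancel_left,
          mul_inv_cancel_left]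
      rw [h2, inv_one] at h3
      rwa [hA.comm v hvA _ ((inferInstance : A.Normal).conj_mem _ hvA y)]
    have h4 : ⁅y, v⁆ = v⁻¹ * v⁻¹ := by
      rw [commutatorElement_def, eq_inv_of_mul_eq_one_right h1]
    have h5 : v * v * (v * v) = 1 := (sq_omega hR hA hvA).2
    rw [h4, ← mul_inv_rev, inv_eq_of_mul_eq_one_right h5]
  have hJ : ∀ y ∈ M, ∀ y' ∈ M, ∀ w, D y (sq2 y' w) = D y' (sq2 y w) := by
    intro y hy y' hy' w
    refine toW_inj ?_
    set u := ⁅y', w⁆ with hu
    set v := ⁅y, w⁆ with hv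
    rw [hD y (comm_mem_A hR hA hC y' w) (hsq2 y' w).symm,
      hD y' (comm_mem_A hR hA hC y w) (hsq2 y w).symm, ← hu, ← hv]
    have h1 : y * y' * w * (y * y')⁻¹ = y' * y * w * (y' * y)⁻¹ := by
      have hcm := hMc y hy y' hy'
      calc y * y' * w * (y * y')⁻¹
          = ⁅y, y'⁆ * (y' * y * w * (y' * y)⁻¹) * ⁅y, y'⁆⁻¹ := by
            simp only [commutatorElement_def]; group
        _ = _ := by rw [← Subgroup.mem_center_iff.1 hcm.1, mul_inv_cancel_right]
    have h2 : ⁅y, u⁆ * u * v * w = ⁅y', v⁆ * v * u * w := by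
      calc ⁅y, u⁆ * u * v * w = y * y' * w * (y * y')⁻¹ := by
            rw [hu, hv]; simp only [commutatorElement_def]; group
        _ = y' * y * w * (y' * y)⁻¹ := h1
        _ = _ := by rw [hu, hv]; simp only [commutatorElement_def]; group
    rw [mul_assoc (⁅y', v⁆) v u, hA.comm v (comm_mem_A hR hA hC y w) u (comm_mem_A hR hA hC y' w),
      ← mul_assoc] at h2
    exact mul_right_cancel (mul_right_cancel (mul_right_cancel h2))
  -- the squares of the commutators vanish
  have hval : ∀ w w', sq2 y₀ w ≠ 0 → sq2 y₀ w' ≠ 0 → sq2 y₀ w = sq2 y₀ w' := by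
    intro w w' h h'
    have e1 := hR1 y₀ hy₀ w
    have e2 := hR1 y₀ hy₀ w'
    rw [hmon y₀ hy₀] at e1 e2
    have h3 : τ (sq2 y₀ w' / sq2 y₀ w) = sq2 y₀ w' / sq2 y₀ w := by
      rw [map_div₀, div_eq_div_iff ((map_ne_zero τ).2 h) h]
      have h4 : δ y₀ * (τ (sq2 y₀ w') * sq2 y₀ w) = δ y₀ * (sq2 y₀ w' * τ (sq2 y₀ w)) := by
        linear_combination (sq2 y₀ w) * e2 - (sq2 y₀ w') * e1
      exact mul_left_cancel₀ (hδne y₀ hy₀ hy₀A) h4
    rcases hfix _ h3 with h4 | h4
    · exact absurd ((div_eq_zero_iff.1 h4).resolve_right h) h'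
    · exact ((div_eq_one_iff_eq h).1 h4).symm
  have hsq2add : ∀ w w', sq2 y₀ (w * w') = sq2 y₀ w + sq2 y₀ w' := fun w w' => toW_inj (by
    rw [toW_add, hsq2, hsq2, hsq2, commSq_mul_right hR hA hC])
  let H₀ : Subgroup P :=
    { carrier := {w | sq2 y₀ w = 0}
      one_mem' := toW_inj (by rw [hsq2, toW_zero, commutatorElement_one_right, one_mul])
      mul_mem' := fun {u v} (hu : sq2 y₀ u = 0) (hv : sq2 y₀ v = 0) => by
        show sq2 y₀ (u * v) = 0
        rw [hsq2add, hu, hv, add_zero]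
      inv_mem' := fun {u} (hu : sq2 y₀ u = 0) => by
        show sq2 y₀ u⁻¹ = 0
        have h1 := hsq2add u u⁻¹
        rw [hu, zero_add, mul_inv_cancel] at h1
        rw [← h1]
        exact toW_inj (by rw [hsq2, toW_zero, commutatorElement_one_right, one_mul]) }
  have hH₀ : ∀ w, sq2 y₀ w = 0 → ∀ y ∈ M, sq2 y w = 0 := by
    intro w hw y hy
    have := hJ y₀ hy₀ y hy w
    rw [hw, hD0, hmon y₀ hy₀] at this
    exact (map_eq_zero τ).1 ((mul_eq_zero.1 this).resolve_left (hδne y₀ hy₀ hy₀A))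
  have hH₀i : KInv K H₀ := by
    intro k hk w (hw : sq2 y₀ w = 0)
    show sq2 y₀ (k w) = 0
    have h1 := hH₀ w hw (k.symm y₀) (hMi k⁻¹ (K.inv_mem hk) _ hy₀)
    refine toW_inj ?_
    have h2 := hsq2 (k.symm y₀) w
    rw [h1, toW_zero] at h2
    have h3 := congrArg k h2
    rw [map_one, map_mul, map_commutatorElement, MulEquiv.apply_symm_apply] at h3
    rw [hsq2, toW_zero, ← h3]
  have hall : ∀ w, sq2 y₀ w = 0 := by
    refine eq_top_of_mul_mem hR hH₀i fun u v hu hv => ?_
    show sq2 y₀ (u⁻¹ * v) = 0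
    have h1 := hsq2add u (u⁻¹ * v)
    rw [mul_inv_cancel_left, ← hval u v hu hv] at h1
    simpa using h1.symm
  -- so `y₀` commutes with all squares, hence with `A`
  have hy₀W : ∀ w, ⁅y₀, w⁆ ∈ W := fun w => mem_omega_of_sq hR (by
    rw [← hsq2, hall, toW_zero])
  have hy₀sq : ∀ x : P, ⁅y₀, x * x⁆ = 1 := fun x => by
    have h1 : ⁅y₀, x * x⁆ = ⁅y₀, x⁆ * (x * ⁅y₀, x⁆ * x⁻¹) := by
      simp only [commutatorElement_def]; group
    rw [h1, omega_conj (hy₀W x), (hy₀W x).2]
  by_contra hg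
  refine hy₀A ?_
  rw [← hC]
  refine Subgroup.mem_centralizer_iff.2 fun a ha => ?_
  refine (commutatorElement_eq_one_iff_mul_comm.1 ?_).symm
  by_cases ha2 : a * a = 1
  · exact commutatorElement_eq_one_iff_mul_comm.2
      (Subgroup.mem_center_iff.1 (mem_omega_of_sq hR ha2).1 y₀)
  have hggA := sq_mem_A hR hA hC g
  obtain ⟨k, hk, -⟩ := hR.reg (g * g * (g * g)) (a * a) (fun h => hg (mem_omega_of_sq hR h))
    (sq_omega hR hA hggA).2 ha2 (sq_omega hR hA ha).2
  rw [map_mul, map_mul] at hk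
  rw [dev_eq_of_sq hR hA ha (sq_mem_A hR hA hC _) hk.symm]
  exact hy₀sq _

end expFour

/-- All squares are central. -/
theorem sq_mem_omega (hR : RegularInv K) (hna : ∃ x y : P, x * y ≠ y * x) (g : P) :
    g * g ∈ omegaCenter P := by
  classical
  haveI := hR.fin
  set W := omegaCenter P with hW
  have hZW := center_eq hR hna
  obtain ⟨e₀, he₀, he₀1⟩ := exists_omega_ne_one hR
  let S : Set (Subgroup P) :=
    {A | A.Normal ∧ (∀ a ∈ A, ∀ b ∈ A, a * b = b * a) ∧ KInv K A ∧ W ≤ A}
  have hWc : ∀ a ∈ W, ∀ b ∈ W, a * b = b * a := fun a _ b hb => Subgroup.mem_center_iff.1 hb.1 a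
  obtain ⟨A, ⟨hAn, hAc, hAi, hWA⟩, hmax⟩ := (Set.toFinite S).exists_maximal
    ⟨W, omega_normal, hWc, kInv_omegaCenter, le_rfl⟩
  haveI := hAn
  have hAtop : A < ⊤ := lt_top_iff_ne_top.2 fun h => by
    obtain ⟨x, y, hxy⟩ := hna
    exact hxy (hAc x (h ▸ Subgroup.mem_top x) y (h ▸ Subgroup.mem_top y))
  obtain ⟨f, hA⟩ := exists_homoData hR hAc hAi
    (fun h => he₀1 (by have := hWA he₀; rwa [h, Subgroup.mem_bot] at this))
  have hCeq : 2 ≤ f → Subgroup.centralizer (A : Set P) = A := by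
    intro hf
    have hAC : A ≤ Subgroup.centralizer (A : Set P) := fun a ha =>
      Subgroup.mem_centralizer_iff.2 fun b hb => hAc b hb a ha
    by_contra hne
    haveI : (Subgroup.centralizer (A : Set P)).Normal := Subgroup.normal_centralizer
    have hlt := lt_stepSubgroup hR.isPGroup (lt_of_le_of_ne hAC (Ne.symm hne))
    obtain ⟨hBn, -⟩ := stepSubgroup_normal hAC
    exact hlt.not_ge (hmax ⟨hBn, stepSubgroup_comm hR hA hf hlt,
      stepSubgroup_kInv hAi (centralizer_kInv hAi), hWA.trans hlt.le⟩ hlt.le)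
  rcases lt_trichotomy f 2 with hf | rfl | hf
  · have hf1 : f = 1 := by have := one_le_f hA; omega
    subst hf1
    have hAW : A ≤ W := fun a ha => mem_omega_of_sq hR (by
      have := hA.pow_eq a ha; rwa [pow_one, sq] at this)
    have hAeq : A = W := le_antisymm hAW hWA
    by_contra hg
    let Φ : Subgroup P := Subgroup.closure ({x | ∃ y, y * y = x} ∪ (W : Set P))
    have hWΦ : W ≤ Φ := fun x hx => Subgroup.subset_closure (Or.inr hx)
    have hΦn : Φ.Normal := ⟨fun n hn y => by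
      have hle : Φ ≤ Φ.comap (MulAut.conj y).toMonoidHom := by
        refine (Subgroup.closure_le _).2 ?_
        rintro x (⟨z, rfl⟩ | hx)
        · exact Subgroup.subset_closure (Or.inl ⟨y * z * y⁻¹, by simp [MulAut.conj_apply]⟩)
        · show y * x * y⁻¹ ∈ Φ
          rw [omega_conj hx]; exact hWΦ hx
      simpa [MulAut.conj_apply] using hle hn⟩
    have hΦi : KInv K Φ := by
      intro k hk
      have hle : Φ ≤ Φ.comap k.toMonoidHom := by
        refine (Subgroup.closure_le _).2 ?_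
        rintro x (⟨z, rfl⟩ | hx)
        · exact Subgroup.subset_closure (Or.inl ⟨k z, (map_mul k z z).symm⟩)
        · exact hWΦ (kInv_omegaCenter k hk x hx)
      exact fun x hx => hle hx
    have hWlt : W < Φ := lt_of_le_of_ne hWΦ fun h => hg (h ▸ Subgroup.subset_closure (Or.inl ⟨g, rfl⟩))
    haveI := omega_normal (P := P)
    haveI := hΦn
    have hlt := lt_stepSubgroup hR.isPGroup hWlt
    obtain ⟨hBn, -⟩ := stepSubgroup_normal hWlt.le
    refine hlt.not_ge (le_trans (hmax ⟨hBn, fun u hu v hv => ?_,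
      stepSubgroup_kInv kInv_omegaCenter hΦi, hlt.le⟩ (hAeq ▸ hlt.le)) hAW)
    obtain ⟨⟨-, huW⟩, -⟩ := mem_stepSubgroup.1 hu
    have hcent : Φ ≤ Subgroup.centralizer {u} := by
      refine (Subgroup.closure_le _).2 ?_
      rintro x (⟨z, rfl⟩ | hx) <;> refine Subgroup.mem_centralizer_singleton_iff.2 ?_
      · refine (commutatorElement_eq_one_iff_mul_comm.1 ?_).symm
        have h1 : ⁅u, z * z⁆ = ⁅u, z⁆ * (z * ⁅u, z⁆ * z⁻¹) := by
          simp only [commutatorElement_def]; group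
        rw [h1, omega_conj (huW z), (huW z).2]
      · exact (Subgroup.mem_center_iff.1 hx.1 u).symm
    exact (Subgroup.mem_centralizer_singleton_iff.1
      (hcent (mem_stepSubgroup.1 hv).2)).symm
  · exact sq_omega_of_expFour hR hA (hCeq le_rfl) g
  · exact absurd (eq_bot_step hR hA hf (hCeq (by omega))) (lt_stepSubgroup hR.isPGroup hAtop).not_ge

/-- The order is a power of the order of the centre. -/
theorem exists_card_eq_pow (hR : RegularInv K) (hna : ∃ x y : P, x * y ≠ y * x) {f : ℕ}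
    (hf : Nat.card (omegaCenter P) = 2 ^ f) :
    ∃ r, 2 ≤ r ∧ Nat.card P = Nat.card (omegaCenter P) ^ r := by
  classical
  haveI := hR.fin
  haveI : Fact (Nat.Prime 2) := ⟨Nat.prime_two⟩
  haveI := omega_normal (P := P)
  set W := omegaCenter P with hW
  have hKc := card_K hR
  change Nat.card W = 2 ^ f at hf
  change Nat.card K + 1 = Nat.card W at hKc
  obtain ⟨j, hj⟩ := IsPGroup.iff_card.1 (hR.isPGroup.to_quotient W)
  let act : K → (P ⧸ W) → (P ⧸ W) := fun k => QuotientGroup.map W W (k : MulAut P).toMonoidHom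
    (fun x hx => kInv_omegaCenter _ k.2 x hx)
  letI : MulAction K (P ⧸ W) :=
    { smul := act
      one_smul := fun v => by induction v using QuotientGroup.induction_on with | _ x => rfl
      mul_smul := fun k l v => by induction v using QuotientGroup.induction_on with | _ x => rfl }
  have hdvd : Nat.card K ∣ Nat.card (P ⧸ W) - 1 := by
    haveI := Fintype.ofFinite (P ⧸ W)
    have hone : ∀ k : K, k • (1 : P ⧸ W) = 1 := fun k => map_one (QuotientGroup.map W W
      (k : MulAut P).toMonoidHom (fun x hx => kInv_omegaCenter _ k.2 x hx))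
    letI : MulAction K {v : P ⧸ W // v ≠ 1} :=
      { smul := fun k v => ⟨k • v.1, fun h => v.2 (by
          rw [← inv_smul_smul k v.1, h, hone])⟩
        one_smul := fun v => Subtype.ext (one_smul K v.1)
        mul_smul := fun k l v => Subtype.ext (mul_smul k l v.1) }
    have hfree : ∀ v : {v : P ⧸ W // v ≠ 1}, MulAction.stabilizer K v = ⊥ := by
      rintro ⟨v, hv⟩
      rw [eq_bot_iff]
      intro k hk
      have hk' : k • v = v := congrArg Subtype.val hk
      induction v using QuotientGroup.induction_on with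
      | _ x =>
        rw [Subgroup.mem_bot]
        by_contra hk1
        exact hv ((QuotientGroup.eq_one_iff x).2 (mem_of_coset_fixed hR kInv_omegaCenter k.2
          (fun h => hk1 (Subtype.ext h)) (QuotientGroup.eq.1 hk'.symm)))
    have h := Nat.card_congr (MulAction.selfEquivOrbitsQuotientProd hfree)
    rw [Nat.card_prod, Nat.card_eq_fintype_card, Fintype.card_subtype_compl,
      Fintype.card_subtype_eq, ← Nat.card_eq_fintype_card] at h
    exact Dvd.intro_left _ h.symm
  have hf1 : 1 ≤ f := by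
    by_contra h
    rw [Nat.lt_one_iff.1 (not_le.1 h), pow_zero] at hf
    obtain ⟨e₀, he₀, he₀1⟩ := exists_omega_ne_one hR
    have := (Nat.card_eq_one_iff_unique.1 hf).1
    exact he₀1 (congrArg Subtype.val (Subsingleton.elim (⟨e₀, he₀⟩ : W) 1))
  have hP := Subgroup.card_eq_card_quotient_mul_card_subgroup W
  rw [hj] at hdvd hP
  have hK : Nat.card K = 2 ^ f - 1 := by omega
  rw [hK] at hdvd
  have hgcd := Nat.gcd_eq_left hdvd
  rw [Nat.pow_sub_one_gcd_pow_sub_one] at hgcd
  have hfj : f ∣ j := by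
    have h1 : 2 ^ Nat.gcd f j = 2 ^ f := by
      have := Nat.one_le_two_pow (n := Nat.gcd f j)
      have := Nat.one_le_two_pow (n := f)
      omega
    exact Nat.gcd_eq_left_iff_dvd.1 (Nat.pow_right_injective le_rfl h1)
  obtain ⟨i, rfl⟩ := hfj
  have hi : i ≠ 0 := by
    rintro rfl
    rw [mul_zero, pow_zero, one_mul] at hP
    have hW' : W = ⊤ := Subgroup.eq_top_of_card_eq _ hP.symm
    obtain ⟨x, y, hxy⟩ := hna
    exact hxy (Subgroup.mem_center_iff.1 (hW' ▸ Subgroup.mem_top y : y ∈ W).1 x)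
  refine ⟨i + 1, by omega, ?_⟩
  rw [hP, hf, pow_succ, pow_mul]

/-- If the order is the square of the order of the centre, squaring is injective modulo the
centre. -/
theorem sq_inj (hR : RegularInv K) (hna : ∃ x y : P, x * y ≠ y * x)
    (hcard : Nat.card P = Nat.card (omegaCenter P) ^ 2) {u v : P} (h : u * u = v * v)
    (hu : u * u ≠ 1) : u⁻¹ * v ∈ omegaCenter P := by
  classical
  haveI := hR.fin
  haveI := omega_normal (P := P)
  set W := omegaCenter P with hW
  have huW : u ∉ W := fun hm => hu hm.2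
  let f : K → {z : P ⧸ W // z ≠ 1} := fun k =>
    ⟨(((k : MulAut P) u : P) : P ⧸ W), fun h1 => huW (by
      have := kInv_omegaCenter (K := K) _ (K.inv_mem k.2) _ ((QuotientGroup.eq_one_iff _).1 h1)
      simpa using this)⟩
  have hinj : Function.Injective f := by
    intro k l he
    have h1 : ((k : MulAut P) u)⁻¹ * (l : MulAut P) u ∈ W := QuotientGroup.eq.1 (congrArg Subtype.val he)
    have h2 := kInv_omegaCenter (K := K) _ (K.inv_mem k.2) _ h1
    rw [map_mul, map_inv, ← MulAut.mul_apply, inv_mul_cancel, ← MulAut.mul_apply] at h2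
    by_contra hne
    exact huW (mem_of_coset_fixed hR kInv_omegaCenter (k⁻¹ * l).2
      (fun e => hne (inv_mul_eq_one.1 (Subtype.ext e : k⁻¹ * l = 1))) h2)
  have hVcard : Nat.card (P ⧸ W) = Nat.card W := by
    have := Subgroup.card_eq_card_quotient_mul_card_subgroup W
    rw [hcard, sq] at this
    exact (Nat.eq_of_mul_eq_mul_right Nat.card_pos this).symm
  haveI := Fintype.ofFinite (P ⧸ W)
  have hsurj := (hinj.bijective_of_nat_card_le (le_of_eq (by
    rw [Nat.card_eq_fintype_card, Fintype.card_subtype_compl, Fintype.card_subtype_eq,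
      ← Nat.card_eq_fintype_card, hVcard, ← card_K hR, Nat.add_sub_cancel]))).2
  have hvW : v ∉ W := fun hm => hu (h.trans hm.2)
  obtain ⟨k, hk⟩ := hsurj ⟨(v : P ⧸ W), fun h1 => hvW ((QuotientGroup.eq_one_iff v).1 h1)⟩
  have hw : ((k : MulAut P) u)⁻¹ * v ∈ W := QuotientGroup.eq.1 (congrArg Subtype.val hk)
  have hkv : (k : MulAut P) (u * u) = u * u := by
    set w := ((k : MulAut P) u)⁻¹ * v with hwdef
    have hv : v = (k : MulAut P) u * w := by rw [hwdef]; group
    conv_rhs => rw [h, hv]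
    rw [map_mul]
    calc (k : MulAut P) u * (k : MulAut P) u = (k : MulAut P) u * (k : MulAut P) u * (w * w) := by
          rw [hw.2, mul_one]
      _ = (k : MulAut P) u * ((k : MulAut P) u * w) * w := by group
      _ = (k : MulAut P) u * (w * (k : MulAut P) u) * w := by
          rw [Subgroup.mem_center_iff.1 hw.1 ((k : MulAut P) u)]
      _ = _ := by group
  by_cases hk1 : (k : MulAut P) = 1
  · rwa [hk1, MulAut.one_apply] at hw
  · exact absurd (fixedPointFree hR k.2 hk1 hkv) hu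

end CfsgLib.ZT
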