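import Cfsg.Agent.Lib.ZT.Frattini
import Cfsg.Agent.Lib.Zass.Involutions

/-!
# A Zassenhaus group of odd degree whose Frobenius kernels are nonabelian 2-groups: basic facts
-/

set_option autoImplicit false
set_option linter.style.haveILetI false
set_option linter.unusedSectionVars false

open MulAction

namespace CfsgLib.ZT

open CfsgLib.Zass CfsgLib.SuzukiTwo

variable {G Ω : Type*} [Group G] [MulAction G Ω] [Fintype Ω]

/-- The two-point stabiliser. -/
abbrev pair (G : Type*) {Ω : Type*} [Group G] [MulAction G Ω] (a b : Ω) : Subgroup G :=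
  stabilizer G a ⊓ stabilizer G b

/-- Two points of a Zassenhaus group with inverted odd two-point stabilisers such that the
kernel at the first point is a nonabelian 2-group. -/
structure Setting (G : Type*) {Ω : Type*} [Group G] [MulAction G Ω] (a b : Ω) (U : Subgroup G) :
    Prop where
  oddInv : OddInv G Ω
  ne : a ≠ b
  kernel : Pre.IsKernel a U
  two : IsPGroup 2 U
  nonab : ∃ u ∈ U, ∃ v ∈ U, u * v ≠ v * u
  cyclic : IsCyclic ↥(pair G a b)

/-- The automorphisms of the kernel induced by a two-point stabiliser. -/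
def conjHom {a b : Ω} {U : Subgroup G} (hK : Pre.IsKernel a U) : ↥(pair G a b) →* MulAut U where
  toFun k :=
    { toFun := fun u => ⟨k * u * (k : G)⁻¹, hK.conj_mem k k.2.1 u u.2⟩
      invFun := fun u => ⟨(k : G)⁻¹ * u * k, by
        have := hK.conj_mem (k : G)⁻¹ ((stabilizer G a).inv_mem k.2.1) u u.2
        rwa [inv_inv] at this⟩
      left_inv := fun u => Subtype.ext (show (k : G)⁻¹ * (k * u * (k : G)⁻¹) * k = u by group)
      right_inv := fun u => Subtype.ext (show (k : G) * ((k : G)⁻¹ * u * k) * (k : G)⁻¹ = u by group)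
      map_mul' := fun u v => Subtype.ext
        (show (k : G) * (u * v) * (k : G)⁻¹ = k * u * (k : G)⁻¹ * (k * v * (k : G)⁻¹) by group) }
  map_one' := MulEquiv.ext fun u => Subtype.ext (show (1 : G) * u * (1 : G)⁻¹ = u by group)
  map_mul' k l := MulEquiv.ext fun u => Subtype.ext
    (show (k : G) * l * u * ((k : G) * l)⁻¹ = k * (l * u * (l : G)⁻¹) * (k : G)⁻¹ by group)

theorem conjHom_coe {a b : Ω} {U : Subgroup G} (hK : Pre.IsKernel a U) (k : ↥(pair G a b)) (u : U) :
    ((conjHom hK k u : U) : G) = k * u * (k : G)⁻¹ := rfl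

namespace Setting

variable {a b : Ω} {U : Subgroup G} (hS : Setting G a b U)
include hS

theorem finite_group : Finite G := hS.oddInv.pre.finite_group

theorem card_omega : Fintype.card Ω = Nat.card U + 1 := (hS.kernel.card hS.oddInv.pre).symm

theorem even_h : Even (Nat.card U) := by
  haveI := hS.finite_group
  haveI : Fact (Nat.Prime 2) := ⟨Nat.prime_two⟩
  obtain ⟨u, hu, v, hv, hne⟩ := hS.nonab
  obtain ⟨n, hn⟩ := IsPGroup.iff_card.1 hS.two
  rw [hn, Nat.even_pow]
  refine ⟨even_two, fun h0 => hne ?_⟩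
  rw [h0, pow_zero] at hn
  haveI := (Nat.card_eq_one_iff_unique.1 hn).1
  rw [show u = v from congrArg Subtype.val (Subsingleton.elim (⟨u, hu⟩ : U) ⟨v, hv⟩)]

theorem odd_omega : Odd (Fintype.card Ω) := hS.card_omega ▸ hS.even_h.add_one

theorem odd_e : Odd (Nat.card ↥(pair G a b)) := hS.oddInv.odd a b hS.ne

theorem three_le_e : 3 ≤ Nat.card ↥(pair G a b) := by
  haveI := hS.finite_group
  obtain ⟨g, hg, ga, gb⟩ := hS.oddInv.pre.exists_two_fix hS.ne
  haveI : Nontrivial ↥(pair G a b) :=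
    ⟨⟨⟨g, ga, gb⟩, 1, fun h => hg (congrArg Subtype.val h)⟩⟩
  have := Finite.one_lt_card (α := ↥(pair G a b))
  obtain ⟨k, hk⟩ := hS.odd_e
  omega

theorem card_group : Nat.card G = (Nat.card U + 1) * Nat.card U * Nat.card ↥(pair G a b) := by
  rw [hS.oddInv.pre.card_eq hS.ne, hS.card_omega, Nat.add_sub_cancel]

theorem involution_mem {x : G} (hx : orderOf x = 2) (hxa : x • a = a) : x ∈ U :=
  hS.kernel.mem x hxa fun _ hd => hS.oddInv.involution_fix_le_one hx hxa hd

theorem involution_comm {x : G} (hx : orderOf x = 2) (hxa : x • a = a) {u : G} (hu : u ∈ U) :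
    u * x = x * u := by
  rw [← hS.oddInv.centralizer_involution hS.odd_omega hx hxa hS.kernel] at hu
  exact Subgroup.mem_centralizer_singleton_iff.1 hu

theorem eq_one_of_mem {g : G} (hg : g ∈ U) (hgb : g • b = b) : g = 1 := by
  by_contra h
  exact hS.ne (hS.kernel.fix g hg h b hgb).symm

theorem commute_eq_one {k : G} (hk : k ∈ pair G a b) (hk1 : k ≠ 1) {u : G} (hu : u ∈ U)
    (hc : k * u = u * k) : u = 1 :=
  hS.kernel.eq_one_of_commute hS.oddInv.pre hS.ne.symm hk.1 hk.2 hk1 hu hc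

theorem orderOf_coe_eq_two {x : U} : orderOf (x : G) = 2 ↔ x ≠ 1 ∧ x * x = 1 := by
  rw [Subgroup.orderOf_coe, orderOf_eq_prime_iff (hp := ⟨Nat.prime_two⟩), sq]
  exact and_comm

theorem regularInv : RegularInv (conjHom (b := b) hS.kernel).range := by
  classical
  haveI := hS.finite_group
  haveI := hS.cyclic
  haveI := Fintype.ofFinite U
  have hcard : Nat.card {x : U // x ≠ 1 ∧ x * x = 1} = Nat.card ↥(pair G a b) := by
    rw [← hS.oddInv.card_involutions_fix hS.odd_omega hS.ne rfl a]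
    refine Nat.card_congr
      { toFun := fun x => ⟨x.1, hS.orderOf_coe_eq_two.2 x.2, hS.kernel.le _ x.1.2⟩
        invFun := fun x => ⟨⟨x.1, hS.involution_mem x.2.1 x.2.2⟩, hS.orderOf_coe_eq_two.1 x.2.1⟩
        left_inv := fun x => rfl
        right_inv := fun x => rfl }
  refine ⟨inferInstance, hS.two, ?_, ?_, ?_⟩
  · have h3 := hS.three_le_e
    obtain ⟨x, y, hxy⟩ := Fintype.one_lt_card_iff.1
      (show 1 < Fintype.card {x : U // x ≠ 1 ∧ x * x = 1} by
        rw [← Nat.card_eq_fintype_card]; omega)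
    exact ⟨x.1, y.1, fun h => hxy (Subtype.ext h), x.2.1, x.2.2, y.2.1, y.2.2⟩
  · exact isCyclic_of_surjective (conjHom (b := b) hS.kernel).rangeRestrict
      (MonoidHom.rangeRestrict_surjective _)
  intro x y hx1 hx2 hy1 hy2
  have hfree : ∀ k l : ↥(pair G a b), conjHom hS.kernel k x = conjHom hS.kernel l x → k = l := by
    intro k l h
    by_contra hne
    refine hx1 (Subtype.ext (hS.commute_eq_one (l⁻¹ * k).2
      (fun e => hne (inv_mul_eq_one.1 (Subtype.ext e : l⁻¹ * k = 1)).symm) x.2 ?_))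
    have h' : (k : G) * x * (k : G)⁻¹ = l * x * (l : G)⁻¹ := congrArg Subtype.val h
    show (l : G)⁻¹ * k * x = x * ((l : G)⁻¹ * k)
    calc (l : G)⁻¹ * k * x = (l : G)⁻¹ * (k * x * (k : G)⁻¹) * k := by group
      _ = (x : G) * ((l : G)⁻¹ * k) := by rw [h']; group
  let f : ↥(pair G a b) → {x : U // x ≠ 1 ∧ x * x = 1} := fun k =>
    ⟨conjHom hS.kernel k x, fun h => hx1 ((conjHom hS.kernel k).injective (h.trans (map_one _).symm)),
      by rw [← map_mul, hx2, map_one]⟩
  have hf : Function.Injective f := fun k l h => hfree k l (congrArg Subtype.val h)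
  obtain ⟨k, hk⟩ := (hf.bijective_of_nat_card_le hcard.le).2 ⟨y, hy1, hy2⟩
  have hk' : conjHom hS.kernel k x = y := congrArg Subtype.val hk
  refine ⟨⟨_, k, rfl⟩, hk', ?_⟩
  rintro ⟨_, l, rfl⟩ hl
  exact Subtype.ext (by rw [hfree l k (hl.trans hk'.symm)])

theorem nonab' : ∃ x y : U, x * y ≠ y * x := by
  obtain ⟨u, hu, v, hv, hne⟩ := hS.nonab
  exact ⟨⟨u, hu⟩, ⟨v, hv⟩, fun h => hne (congrArg Subtype.val h)⟩

theorem card_conjRange : Nat.card (conjHom (b := b) hS.kernel).range = Nat.card ↥(pair G a b) := by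
  haveI := hS.finite_group
  refine (Nat.card_congr ((MonoidHom.ofInjective ?_).toEquiv)).symm
  intro k l h
  by_contra hne
  obtain ⟨x, y, -, hx1, hx2, -⟩ := hS.regularInv.two
  refine hx1 (Subtype.ext (hS.commute_eq_one (l⁻¹ * k).2
    (fun e => hne (inv_mul_eq_one.1 (Subtype.ext e : l⁻¹ * k = 1)).symm) x.2 ?_))
  have h' : (k : G) * x * (k : G)⁻¹ = l * x * (l : G)⁻¹ :=
    congrArg Subtype.val (DFunLike.congr_fun h x)
  show (l : G)⁻¹ * k * x = x * ((l : G)⁻¹ * k)
  calc (l : G)⁻¹ * k * x = (l : G)⁻¹ * (k * x * (k : G)⁻¹) * k := by group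
    _ = (x : G) * ((l : G)⁻¹ * k) := by rw [h']; group

theorem card_center : Nat.card ↥(pair G a b) + 1 = Nat.card (omegaCenter U) := by
  rw [← hS.card_conjRange]; exact card_K hS.regularInv

/-- Squares in the kernel are involutions or trivial and are central. -/
theorem sq_central {u : G} (hu : u ∈ U) :
    u * u * (u * u) = 1 ∧ ∀ v ∈ U, v * (u * u) = u * u * v := by
  have h := sq_mem_omega hS.regularInv hS.nonab' ⟨u, hu⟩
  exact ⟨congrArg Subtype.val h.2, fun v hv =>
    congrArg Subtype.val (Subgroup.mem_center_iff.1 h.1 ⟨v, hv⟩)⟩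

/-- The numerical parameters. -/
theorem exists_params : ∃ f r : ℕ, 2 ≤ f ∧ 2 ≤ r ∧ Nat.card ↥(pair G a b) + 1 = 2 ^ f ∧
    Nat.card U = (2 ^ f) ^ r := by
  haveI := hS.finite_group
  haveI : Fact (Nat.Prime 2) := ⟨Nat.prime_two⟩
  obtain ⟨f, hf⟩ := IsPGroup.iff_card.1 (hS.two.to_subgroup (omegaCenter U))
  obtain ⟨r, hr, hc⟩ := exists_card_eq_pow hS.regularInv hS.nonab' hf
  have h1 := hS.card_center
  have h3 := hS.three_le_e
  refine ⟨f, r, ?_, hr, h1.trans hf, hf ▸ hc⟩
  by_contra h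
  have := Nat.pow_le_pow_right (show 1 ≤ 2 by omega) (show f ≤ 1 by omega)
  omega

theorem sq_inj_mod (hr : Nat.card U = (Nat.card ↥(pair G a b) + 1) ^ 2) {u v : G} (hu : u ∈ U)
    (hv : v ∈ U) (h : u * u = v * v) (h1 : u * u ≠ 1) : u⁻¹ * v * (u⁻¹ * v) = 1 := by
  have h' := sq_inj hS.regularInv hS.nonab' (by rw [hr, hS.card_center])
    (u := (⟨u, hu⟩ : U)) (v := ⟨v, hv⟩) (Subtype.ext h) (fun e => h1 (congrArg Subtype.val e))
  exact congrArg Subtype.val h'.2

end Setting

end CfsgLib.ZT
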