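import Cfsg.Agent.Lib.ZT.Setting
import Mathlib.GroupTheory.FixedPointFree

/-!
# Centralisers of real fixed-point-free elements
-/

set_option autoImplicit false
set_option linter.style.haveILetI false
set_option linter.unusedSectionVars false

open MulAction
open scoped commutatorElement

namespace CfsgLib.ZT

open CfsgLib.Zass CfsgLib.SuzukiTwo

variable {G Ω : Type*} [Group G] [MulAction G Ω] [Fintype Ω]

/-- A fixed-point-free element inverted by an involution. -/
def IsRealFpf (Ω : Type*) {G : Type*} [Group G] [MulAction G Ω] (g : G) : Prop :=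
  (∀ c : Ω, g • c ≠ c) ∧ ∃ x : G, orderOf x = 2 ∧ x * g * x⁻¹ = g⁻¹

/-- The centraliser of a real fixed-point-free element. -/
def IsTorus (Ω : Type*) {G : Type*} [Group G] [MulAction G Ω] (A : Subgroup G) : Prop :=
  ∃ g : G, IsRealFpf Ω g ∧ A = Subgroup.centralizer {g}

theorem mul_self_of_orderOf {x : G} (hx : orderOf x = 2) : x * x = 1 ∧ x ≠ 1 ∧ x⁻¹ = x := by
  have h : x * x = 1 := by rw [← sq, ← hx, pow_orderOf_eq_one]
  exact ⟨h, fun e => by rw [e, orderOf_one] at hx; omega, inv_eq_of_mul_eq_one_right h⟩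

theorem orderOf_eq_two_of {x : G} (h1 : x ≠ 1) (h2 : x * x = 1) : orderOf x = 2 :=
  orderOf_eq_prime (by rw [sq, h2]) h1

namespace Setting

variable {a b : Ω} {U : Subgroup G} (hS : Setting G a b U)
include hS

theorem conj_kernel {c : Ω} {K : Subgroup G} (hK : Pre.IsKernel c K) {g : G} (hg : g • a = c)
    {u : G} (hu : u ∈ K) : g⁻¹ * u * g ∈ U := by
  by_cases hu1 : u = 1
  · simp [hu1]
  refine hS.kernel.mem _ ?_ fun d hd => ?_
  · rw [mul_smul, mul_smul, hg, inv_smul_eq_iff, hK.le u hu, hg]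
  · have := hK.fix u hu hu1 (g • d) (by
      rw [mul_smul, mul_smul, inv_smul_eq_iff] at hd; exact hd)
    exact MulAction.injective g (this.trans hg.symm)

theorem kernel_two {c : Ω} {K : Subgroup G} (hK : Pre.IsKernel c K) : IsPGroup 2 K := by
  haveI := hS.finite_group
  haveI : Fact (Nat.Prime 2) := ⟨Nat.prime_two⟩
  obtain ⟨n, hn⟩ := IsPGroup.iff_card.1 hS.two
  refine IsPGroup.of_card (n := n) ?_
  have h1 := hK.card hS.oddInv.pre
  have h2 := hS.card_omega
  omega

theorem kernel_sq {c : Ω} {K : Subgroup G} (hK : Pre.IsKernel c K) {u : G} (hu : u ∈ K) :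
    u * u * (u * u) = 1 ∧ ∀ v ∈ K, v * (u * u) = u * u * v := by
  obtain ⟨g, hg⟩ := hS.oddInv.pre.transitive a c
  obtain ⟨h1, h2⟩ := hS.sq_central (hS.conj_kernel hK hg hu)
  refine ⟨?_, fun v hv => ?_⟩
  · calc u * u * (u * u)
        = g * (g⁻¹ * u * g * (g⁻¹ * u * g) * (g⁻¹ * u * g * (g⁻¹ * u * g))) * g⁻¹ := by group
      _ = 1 := by rw [h1]; group
  · have h3 := h2 _ (hS.conj_kernel hK hg hv)
    calc v * (u * u) = g * (g⁻¹ * v * g * (g⁻¹ * u * g * (g⁻¹ * u * g))) * g⁻¹ := by group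
      _ = g * (g⁻¹ * u * g * (g⁻¹ * u * g) * (g⁻¹ * v * g)) * g⁻¹ := by rw [h3]
      _ = u * u * v := by group

theorem exists_fix {x : G} (hx : orderOf x = 2) : ∃ c : Ω, x • c = c ∧ ∀ d, x • d = d → d = c :=
  hS.oddInv.pre.exists_unique_fix hS.odd_omega (mul_self_of_orderOf hx).1 (mul_self_of_orderOf hx).2.1

/-- Elements commuting with an involution fix its point. -/
theorem fix_of_commute {x g : G} (hx : orderOf x = 2) (h : g * x = x * g) : ∃ c : Ω, x • c = c ∧
    g • c = c := by
  obtain ⟨c, hc, huniq⟩ := hS.exists_fix hx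
  exact ⟨c, hc, huniq _ (by rw [← mul_smul, ← h, mul_smul, hc])⟩

theorem odd_centralizer {g : G} (hg : ∀ c : Ω, g • c ≠ c) :
    Odd (Nat.card (Subgroup.centralizer ({g} : Set G))) := by
  classical
  haveI := hS.finite_group
  haveI : Fact (Nat.Prime 2) := ⟨Nat.prime_two⟩
  by_contra h
  rw [Nat.not_odd_iff_even, even_iff_two_dvd] at h
  obtain ⟨t, ht⟩ := exists_prime_orderOf_dvd_card' 2 h
  rw [← Subgroup.orderOf_coe] at ht
  obtain ⟨c, -, hc⟩ := hS.fix_of_commute ht (Subgroup.mem_centralizer_singleton_iff.1 t.2).symm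
  exact hg c hc

/-- The centraliser of a fixed-point-free element is semiregular. -/
theorem centralizer_semiregular {g : G} (hg : ∀ c : Ω, g • c ≠ c) {z : G}
    (hz : z ∈ Subgroup.centralizer ({g} : Set G)) (hz1 : z ≠ 1) (c : Ω) : z • c ≠ c := by
  haveI := hS.finite_group
  intro hc
  have hcomm := Subgroup.mem_centralizer_singleton_iff.1 hz
  have hz2 : ∀ d : Ω, z • d = d → z • g • d = g • d := fun d hd => by
    rw [← mul_smul, hcomm, mul_smul, hd]
  have h1 := hz2 c hc
  have h2 : g • g • c = c := by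
    rcases hS.oddInv.pre.eq_or_eq hz1 (Ne.symm (hg c)) hc h1 (hz2 _ h1) with h | h
    · exact h
    · exact absurd h (hg (g • c))
  obtain ⟨k, hk⟩ : Odd (orderOf g) := by
    refine Odd.of_dvd_nat (hS.odd_centralizer hg) ?_
    have : g ∈ Subgroup.centralizer ({g} : Set G) := Subgroup.mem_centralizer_singleton_iff.2 rfl
    exact Subgroup.orderOf_dvd_natCard _ this
  have h3 : ∀ j : ℕ, g ^ (2 * j) • c = c := by
    intro j
    induction j with
    | zero => simp
    | succ j ih =>
      rw [show 2 * (j + 1) = 2 * j + 1 + 1 by ring, pow_succ, pow_succ, mul_smul, mul_smul, h2, ih]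
  have h4 : g ^ orderOf g • c = c := by rw [pow_orderOf_eq_one, one_smul]
  rw [hk, pow_succ', mul_smul, h3] at h4
  exact hg c h4

/-- An involution normalising a centraliser of a fixed-point-free element inverts it, and that
centraliser is commutative. -/
theorem inverts {g : G} (hg : ∀ c : Ω, g • c ≠ c) {x : G} (hx : orderOf x = 2)
    (hn : ∀ z ∈ Subgroup.centralizer ({g} : Set G), x * z * x⁻¹ ∈ Subgroup.centralizer ({g} : Set G)) :
    (∀ z ∈ Subgroup.centralizer ({g} : Set G), x * z * x⁻¹ = z⁻¹) ∧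
      ∀ z ∈ Subgroup.centralizer ({g} : Set G), ∀ z' ∈ Subgroup.centralizer ({g} : Set G),
        z * z' = z' * z := by
  haveI := hS.finite_group
  obtain ⟨xx, -, -⟩ := mul_self_of_orderOf hx
  set A := Subgroup.centralizer ({g} : Set G)
  let φ : A →* A :=
    { toFun := fun z => ⟨x * z * x⁻¹, hn z z.2⟩
      map_one' := Subtype.ext (show x * 1 * x⁻¹ = 1 by group)
      map_mul' := fun z z' => Subtype.ext
        (show x * (z * z') * x⁻¹ = x * z * x⁻¹ * (x * z' * x⁻¹) by group) }
  have hfpf : MonoidHom.FixedPointFree φ := by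
    intro z hz
    have hz' : x * z * x⁻¹ = z := congrArg Subtype.val hz
    by_contra hz1
    obtain ⟨c, -, hc⟩ := hS.fix_of_commute hx (g := (z : G)) (by
      conv_lhs => rw [← hz']
      group)
    exact hS.centralizer_semiregular hg z.2 (fun e => hz1 (Subtype.ext e)) c hc
  have hinvol : Function.Involutive φ := fun z => Subtype.ext (by
    show x * (x * z * x⁻¹) * x⁻¹ = z
    calc x * (x * z * x⁻¹) * x⁻¹ = (x * x) * z * (x * x)⁻¹ := by group
      _ = z := by rw [xx]; group)
  refine ⟨fun z hz => ?_, fun z hz z' hz' =>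
    congrArg Subtype.val (hfpf.commute_all_of_involutive hinvol ⟨z, hz⟩ ⟨z', hz'⟩)⟩
  exact congrArg Subtype.val (congrFun (hfpf.coe_eq_inv_of_involutive hinvol) ⟨z, hz⟩)

theorem conj_mem_of_inverts {g x : G} (hi : x * g * x⁻¹ = g⁻¹) {z : G}
    (hz : z ∈ Subgroup.centralizer ({g} : Set G)) :
    x * z * x⁻¹ ∈ Subgroup.centralizer ({g} : Set G) := by
  rw [Subgroup.mem_centralizer_singleton_iff] at hz ⊢
  have e1 : x * g⁻¹ * x⁻¹ = g := by
    calc x * g⁻¹ * x⁻¹ = (x * g * x⁻¹)⁻¹ := by group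
      _ = g := by rw [hi, inv_inv]
  have hz' : z * g⁻¹ = g⁻¹ * z := (Commute.inv_right hz : _)
  calc x * z * x⁻¹ * g = x * z * x⁻¹ * (x * g⁻¹ * x⁻¹) := by rw [e1]
    _ = x * (z * g⁻¹) * x⁻¹ := by group
    _ = (x * g⁻¹ * x⁻¹) * (x * z * x⁻¹) := by rw [hz']; group
    _ = _ := by rw [e1]

section torus

variable {A : Subgroup G} (hA : IsTorus Ω A)
include hA

theorem torus_semiregular {z : G} (hz : z ∈ A) (hz1 : z ≠ 1) (c : Ω) : z • c ≠ c := by
  obtain ⟨g, ⟨hg, -⟩, rfl⟩ := hA
  exact hS.centralizer_semiregular hg hz hz1 c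

theorem torus_odd : Odd (Nat.card A) := by
  obtain ⟨g, ⟨hg, -⟩, rfl⟩ := hA
  exact hS.odd_centralizer hg

theorem torus_involution : ∃ x : G, orderOf x = 2 ∧ ∀ z ∈ A, x * z * x⁻¹ = z⁻¹ := by
  obtain ⟨g, ⟨hg, x, hx, hi⟩, rfl⟩ := hA
  exact ⟨x, hx, (hS.inverts hg hx fun z hz => hS.conj_mem_of_inverts hi hz).1⟩

theorem torus_comm {z z' : G} (hz : z ∈ A) (hz' : z' ∈ A) : z * z' = z' * z := by
  obtain ⟨g, ⟨hg, x, hx, hi⟩, rfl⟩ := hA
  exact (hS.inverts hg hx fun z hz => hS.conj_mem_of_inverts hi hz).2 z hz z' hz'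

theorem torus_real {z : G} (hz : z ∈ A) (hz1 : z ≠ 1) : IsRealFpf Ω z := by
  obtain ⟨x, hx, hi⟩ := hS.torus_involution hA
  exact ⟨hS.torus_semiregular hA hz hz1, x, hx, hi z hz⟩

theorem torus_centralizer {z : G} (hz : z ∈ A) (hz1 : z ≠ 1) :
    Subgroup.centralizer ({z} : Set G) = A := by
  have hA' : IsTorus Ω (Subgroup.centralizer ({z} : Set G)) := ⟨z, hS.torus_real hA hz hz1, rfl⟩
  refine le_antisymm (fun y hy => ?_) fun y hy =>
    Subgroup.mem_centralizer_singleton_iff.2 (hS.torus_comm hA hy hz)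
  obtain ⟨g, ⟨hg, -⟩, rfl⟩ := hA
  refine Subgroup.mem_centralizer_singleton_iff.2 (hS.torus_comm hA' hy ?_)
  exact Subgroup.mem_centralizer_singleton_iff.2 (Subgroup.mem_centralizer_singleton_iff.1 hz).symm

theorem torus_three_le : 3 ≤ Nat.card A := by
  haveI := hS.finite_group
  have hodd := hS.torus_odd hA
  obtain ⟨g, ⟨hg, -⟩, rfl⟩ := hA
  haveI : Nontrivial (Subgroup.centralizer ({g} : Set G)) :=
    ⟨⟨⟨g, Subgroup.mem_centralizer_singleton_iff.2 rfl⟩, 1, fun e => hg a (by
      rw [show g = 1 from congrArg Subtype.val e, one_smul])⟩⟩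
  have := Finite.one_lt_card (α := Subgroup.centralizer ({g} : Set G))
  obtain ⟨k, hk⟩ := hodd
  omega

theorem torus_card_dvd : Nat.card A ∣ Fintype.card Ω := by
  have hfree : ∀ c : Ω, MulAction.stabilizer A c = ⊥ := by
    intro c
    rw [eq_bot_iff]
    intro z hz
    by_contra hz1
    exact hS.torus_semiregular hA z.2 (fun e => hz1 (Subgroup.mem_bot.2 (Subtype.ext e))) c hz
  have h := Nat.card_congr (MulAction.selfEquivOrbitsQuotientProd hfree)
  rw [Nat.card_prod, Nat.card_eq_fintype_card] at h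
  exact Dvd.intro_left _ h.symm

theorem torus_coprime_e : Nat.Coprime (Nat.card A) (Nat.card ↥(pair G a b)) := by
  have h1 := hS.torus_card_dvd hA
  have h2 := hS.oddInv.pre.card_dvd_sub_two hS.ne
  refine Nat.coprime_of_dvd' fun p _ hpA hpe => ?_
  have h3 := hpA.trans h1
  have h4 := (hpe.trans h2)
  have h5 : p ∣ 2 := by
    have := Nat.dvd_sub h3 h4
    rwa [show Fintype.card Ω - (Fintype.card Ω - 2) = 2 by
      have := hS.oddInv.pre.three_le_card; omega] at this
  rcases (Nat.dvd_prime Nat.prime_two).1 h5 with h | h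
  · rw [h]
  · exfalso
    have := hS.odd_e
    rw [h] at hpe
    exact (Nat.not_even_iff_odd.2 this) (even_iff_two_dvd.2 hpe)

theorem torus_eq_of_mem {A' : Subgroup G} (hA' : IsTorus Ω A') {z : G} (hz : z ∈ A) (hz' : z ∈ A')
    (hz1 : z ≠ 1) : A = A' := by
  rw [← hS.torus_centralizer hA hz hz1, hS.torus_centralizer hA' hz' hz1]

theorem torus_conj (y : G) : IsTorus Ω (A.map (MulAut.conj y).toMonoidHom) := by
  obtain ⟨g, ⟨hg, x, hx, hi⟩, rfl⟩ := hA
  refine ⟨y * g * y⁻¹, ⟨fun c hc => hg (y⁻¹ • c) ?_, y * x * y⁻¹, ?_, ?_⟩, ?_⟩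
  · rw [eq_inv_smul_iff]
    simpa [mul_smul] using hc
  · rw [← MulAut.conj_apply, MulEquiv.orderOf_eq, hx]
  · calc y * x * y⁻¹ * (y * g * y⁻¹) * (y * x * y⁻¹)⁻¹ = y * (x * g * x⁻¹) * y⁻¹ := by group
      _ = (y * g * y⁻¹)⁻¹ := by rw [hi]; group
  · ext z
    simp only [Subgroup.mem_map, Subgroup.mem_centralizer_singleton_iff, MulEquiv.coe_toMonoidHom,
      MulAut.conj_apply]
    constructor
    · rintro ⟨w, hw, rfl⟩
      calc y * w * y⁻¹ * (y * g * y⁻¹) = y * (w * g) * y⁻¹ := by group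
        _ = _ := by rw [hw]; group
    · intro hz
      refine ⟨y⁻¹ * z * y, ?_, by group⟩
      calc y⁻¹ * z * y * g = y⁻¹ * (z * (y * g * y⁻¹)) * y := by group
        _ = _ := by rw [hz]; group

theorem mem_normalizer_of_conj {y z : G} (hz : z ∈ A) (hz1 : z ≠ 1) (h : y * z * y⁻¹ ∈ A) :
    y ∈ Subgroup.normalizer (A : Set G) := by
  rw [Subgroup.mem_normalizer_iff_map_conj_eq]
  refine hS.torus_eq_of_mem (hS.torus_conj hA y) hA (z := y * z * y⁻¹)
    ⟨z, hz, rfl⟩ h fun e => hz1 ?_
  calc z = y⁻¹ * (y * z * y⁻¹) * y := by group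
    _ = 1 := by rw [e]; group

/-- A Sylow subgroup for a prime dividing the order of a torus lies in a conjugate of it. -/
theorem exists_sylow_le {p : ℕ} [Fact p.Prime] (hp : p ∣ Nat.card A) :
    ∃ P : Sylow p G, (P : Subgroup G) ≤ A := by
  haveI := hS.finite_group
  obtain ⟨z, hz⟩ := exists_prime_orderOf_dvd_card' p hp
  have hz1 : (z : G) ≠ 1 := fun h => by
    rw [← Subgroup.orderOf_coe, h, orderOf_one] at hz
    exact (Fact.out : p.Prime).ne_one hz.symm
  have hzp : IsPGroup p (Subgroup.zpowers (z : G)) :=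
    IsPGroup.of_card (n := 1) (by rw [Nat.card_zpowers, Subgroup.orderOf_coe, hz, pow_one])
  obtain ⟨P, hP⟩ := hzp.exists_le_sylow
  refine ⟨P, ?_⟩
  have hzP : (z : G) ∈ (P : Subgroup G) := hP (Subgroup.mem_zpowers _)
  haveI : Nontrivial ↥(P : Subgroup G) :=
    ⟨⟨⟨z, hzP⟩, 1, fun e => hz1 (congrArg Subtype.val e)⟩⟩
  haveI := P.isPGroup'.center_nontrivial
  obtain ⟨⟨w, hw⟩, hw1⟩ := exists_ne (1 : Subgroup.center ↥(P : Subgroup G))
  have hw1' : (w : G) ≠ 1 := fun e => hw1 (Subtype.ext (Subtype.ext e))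
  have hcomm : ∀ y ∈ (P : Subgroup G), y * w = w * y := fun y hy =>
    congrArg Subtype.val (Subgroup.mem_center_iff.1 hw ⟨y, hy⟩)
  have hwA : (w : G) ∈ A := by
    rw [← hS.torus_centralizer hA z.2 hz1]
    exact Subgroup.mem_centralizer_singleton_iff.2 (hcomm z hzP).symm
  intro y hy
  rw [← hS.torus_centralizer hA hwA hw1']
  exact Subgroup.mem_centralizer_singleton_iff.2 (hcomm y hy)

theorem torus_coprime {A' : Subgroup G} (hA' : IsTorus Ω A')
    (h : ∀ y : G, A.map (MulAut.conj y).toMonoidHom ≠ A') :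
    Nat.Coprime (Nat.card A) (Nat.card A') := by
  haveI := hS.finite_group
  refine Nat.coprime_of_dvd fun p hp h1 h2 => ?_
  haveI := Fact.mk hp
  obtain ⟨P, hP⟩ := hS.exists_sylow_le hA h1
  obtain ⟨Q, hQ⟩ := hS.exists_sylow_le hA' h2
  obtain ⟨y, rfl⟩ := MulAction.exists_smul_eq G P Q
  refine h y ?_
  have hne : (P : Subgroup G) ≠ ⊥ := P.ne_bot_of_dvd_card
    (h1.trans (Subgroup.card_subgroup_dvd_card A))
  obtain ⟨⟨w, hw⟩, hw1⟩ := Subgroup.ne_bot_iff_exists_ne_one.1 hne
  refine hS.torus_eq_of_mem (hS.torus_conj hA y) hA' (z := y * w * y⁻¹) ⟨w, hP hw, rfl⟩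
    (hQ ?_) fun e => hw1 (Subtype.ext ?_)
  · exact ⟨w, hw, rfl⟩
  · calc w = y⁻¹ * (y * w * y⁻¹) * y := by group
      _ = 1 := by rw [e]; group

/-- The index of a torus in its normaliser. -/
theorem torus_normalizer : ∃ w : ℕ,
    Nat.card (Subgroup.normalizer (A : Set G)) = w * Nat.card A ∧ (w = 2 ∨ w = 4 ∨ w = 8) ∧
      w ∣ Nat.card A - 1 ∧
      (Nat.card U = (Nat.card ↥(pair G a b) + 1) ^ 2 → w ≠ 8) := by
  classical
  haveI := hS.finite_group
  haveI : Fact (Nat.Prime 2) := ⟨Nat.prime_two⟩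
  obtain ⟨x, hx, hinv⟩ := hS.torus_involution hA
  obtain ⟨xx, x1, xinv⟩ := mul_self_of_orderOf hx
  obtain ⟨c, hc, -⟩ := hS.exists_fix hx
  obtain ⟨K, hK⟩ := hS.oddInv.pre.exists_kernel c
  have hCx := hS.oddInv.centralizer_involution hS.odd_omega hx hc hK
  set N := Subgroup.normalizer (A : Set G) with hN
  set W := N ⊓ Subgroup.centralizer ({x} : Set G) with hW
  have hxN : x ∈ N := Subgroup.mem_normalizer_iff.2 fun z => ⟨fun hz => by
    rw [hinv z hz]; exact A.inv_mem hz, fun hz => by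
    have h1 := hinv _ hz
    rw [show x * (x * z * x⁻¹) * x⁻¹ = (x * x) * z * (x * x)⁻¹ by group, xx, one_mul, inv_one,
      mul_one] at h1
    rw [h1]; exact A.inv_mem hz⟩
  have hAN : A ≤ N := Subgroup.le_normalizer
  have hAW : ∀ z ∈ A, z ∈ W → z = 1 := by
    intro z hz hzW
    have h2 : z * x = x * z := Subgroup.mem_centralizer_singleton_iff.1 hzW.2
    by_contra hz1
    obtain ⟨d, -, hd⟩ := hS.fix_of_commute hx h2
    exact hS.torus_semiregular hA hz hz1 d hd
  -- `N = A W`
  have hfac : ∀ y ∈ N, ∃ z ∈ A, z⁻¹ * y ∈ W := by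
    intro y hy
    set x' := y * x * y⁻¹ with hx'
    have hx'o : orderOf x' = 2 := by rw [hx', ← MulAut.conj_apply, MulEquiv.orderOf_eq, hx]
    have hinv' : ∀ z ∈ A, x' * z * x'⁻¹ = z⁻¹ := by
      intro z hz
      have h1 := hinv _ ((Subgroup.mem_normalizer_iff.1 (N.inv_mem hy) z).1 hz)
      calc x' * z * x'⁻¹ = y * (x * (y⁻¹ * z * (y⁻¹)⁻¹) * x⁻¹) * y⁻¹ := by rw [hx']; group
        _ = z⁻¹ := by rw [h1]; group
    obtain ⟨g, hg, rfl⟩ := hA
    have hgA : g ∈ Subgroup.centralizer ({g} : Set G) := Subgroup.mem_centralizer_singleton_iff.2 rfl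
    have hm : x' * x ∈ Subgroup.centralizer ({g} : Set G) := by
      rw [Subgroup.mem_centralizer_singleton_iff]
      calc x' * x * g = x' * (x * g * x⁻¹) * x'⁻¹ * (x' * x) := by group
        _ = _ := by rw [hinv g hgA, hinv' g⁻¹ (Subgroup.inv_mem _ hgA), inv_inv]
    obtain ⟨k, hk⟩ := hS.odd_centralizer hg.1
    set m := x' * x
    have hmk : m ^ (2 * k + 1) = 1 := by
      rw [← hk]
      exact congrArg Subtype.val (pow_card_eq_one' (x := (⟨m, hm⟩ : Subgroup.centralizer ({g} : Set G))))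
    refine ⟨m ^ (k + 1), Subgroup.pow_mem _ hm _,
      N.mul_mem (N.inv_mem (hAN (Subgroup.pow_mem _ hm _))) hy,
      Subgroup.mem_centralizer_singleton_iff.2 ?_⟩
    set z := m ^ (k + 1)
    have hzA : z ∈ Subgroup.centralizer ({g} : Set G) := Subgroup.pow_mem _ hm _
    have h1 : x * z⁻¹ = z * x := by
      have := hinv z⁻¹ (Subgroup.inv_mem _ hzA)
      rw [inv_inv] at this
      calc x * z⁻¹ = x * z⁻¹ * x⁻¹ * x := by group
        _ = z * x := by rw [this]
    have h2 : z * z = m := by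
      rw [← pow_add, show k + 1 + (k + 1) = 2 * k + 1 + 1 by omega, pow_succ, hmk, one_mul]
    calc z⁻¹ * y * x = z⁻¹ * (x' * x) * x⁻¹ * y := by rw [hx']; group
      _ = z⁻¹ * (z * z) * x * y := by rw [h2, xinv]
      _ = z * x * y := by group
      _ = x * (z⁻¹ * y) := by rw [← h1]; group
  have hcardN : Nat.card N = Nat.card A * Nat.card W := by
    rw [← Nat.card_prod]
    refine (Nat.card_eq_of_bijective (fun p : A × W => (⟨p.1 * p.2, N.mul_mem (hAN p.1.2) p.2.2.1⟩ : N))
      ⟨?_, ?_⟩).symm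
    · rintro ⟨z, t⟩ ⟨z', t'⟩ h
      have h' : (z : G) * t = z' * t' := congrArg Subtype.val h
      have h2 : (z' : G)⁻¹ * z = t' * (t : G)⁻¹ := by
        calc (z' : G)⁻¹ * z = (z' : G)⁻¹ * (z * t) * (t : G)⁻¹ := by group
          _ = _ := by rw [h']; group
      have h3 := hAW _ (A.mul_mem (A.inv_mem z'.2) z.2) (by rw [h2]; exact W.mul_mem t'.2 (W.inv_mem t.2))
      have h4 : (z : G) = z' := (inv_mul_eq_one.1 h3).symm
      rw [h4] at h'
      exact Prod.ext (Subtype.ext h4) (Subtype.ext (mul_left_cancel h'))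
    · rintro ⟨y, hy⟩
      obtain ⟨z, hz, hW'⟩ := hfac y hy
      exact ⟨(⟨z, hz⟩, ⟨z⁻¹ * y, hW'⟩), Subtype.ext (mul_inv_cancel_left z y)⟩
  refine ⟨Nat.card W, by rw [hcardN, mul_comm], ?_⟩
  have hWK : W ≤ K := hW ▸ hCx ▸ inf_le_right
  have hxW : x ∈ W := ⟨hxN, Subgroup.mem_centralizer_singleton_iff.2 rfl⟩
  -- the only involution in `W` is `x`
  have hinvol : ∀ t ∈ W, t * t = 1 → t = 1 ∨ t = x := by
    intro t ht h2
    by_cases h1 : t = 1
    · exact Or.inl h1
    refine Or.inr ?_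
    have hm : t * x ∈ A := by
      obtain ⟨g, hg, rfl⟩ := hA
      have hgA : g ∈ Subgroup.centralizer ({g} : Set G) :=
        Subgroup.mem_centralizer_singleton_iff.2 rfl
      have hi := (hS.inverts hg.1 (orderOf_eq_two_of h1 h2) fun z hz =>
        (Subgroup.mem_normalizer_iff.1 ht.1 z).1 hz).1
      rw [Subgroup.mem_centralizer_singleton_iff]
      calc t * x * g = t * (x * g * x⁻¹) * t⁻¹ * (t * x) := by group
        _ = _ := by rw [hinv g hgA, hi g⁻¹ (Subgroup.inv_mem _ hgA), inv_inv]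
    rw [← xinv]
    exact eq_inv_of_mul_eq_one_left (hAW _ hm (W.mul_mem ht hxW))
  -- squares in `W` lie in `{1, x}`
  have hsq : ∀ t ∈ W, t * t = 1 ∨ t * t = x := fun t ht =>
    hinvol _ (W.mul_mem ht ht) (hS.kernel_sq hK (hWK ht)).1
  have hWx : ∀ t ∈ W, t * x = x * t := fun t ht =>
    Subgroup.mem_centralizer_singleton_iff.1 ht.2
  have hW2 : IsPGroup 2 W := (hS.kernel_two hK).to_le hWK
  have hW1 : 2 ≤ Nat.card W := by
    haveI : Nontrivial W := ⟨⟨⟨x, hxW⟩, 1, fun e => x1 (congrArg Subtype.val e)⟩⟩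
    exact Finite.one_lt_card
  haveI := Fintype.ofFinite W
  -- no element of order four: `W = {1, x}`
  have hsmall : Nat.card W ≤ 8 ∧
      (Nat.card U = (Nat.card ↥(pair G a b) + 1) ^ 2 → Nat.card W ≤ 4) := by
    by_cases hex : ∃ u : W, (u : G) * u = x
    · obtain ⟨⟨u, huW⟩, hu⟩ := hex
      let T : Finset G := {1, x, u, u * x}
      have hT : T.card ≤ 4 := Finset.card_le_four
      have hmem : ∀ v : W, (v : G) * u = u * v → (v : G) ∈ T := by
        rintro ⟨v, hv⟩ hvu
        simp only [T, Finset.mem_insert, Finset.mem_singleton]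
        rcases hsq v hv with h2 | h2
        · rcases hinvol v hv h2 with h | h
          · exact Or.inl h
          · exact Or.inr (Or.inl h)
        · have h4 : v * u * (v * u) = 1 := by
            rw [Commute.mul_mul_mul_comm (Commute.symm hvu) v u, h2, hu, xx]
          rcases hinvol _ (W.mul_mem hv huW) h4 with h5 | h5
          · refine Or.inr (Or.inr (Or.inr ?_))
            calc v = v * u * u⁻¹ := by group
              _ = u * x := by
                rw [h5, one_mul]
                refine inv_eq_of_mul_eq_one_right ?_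
                rw [← mul_assoc, hu, xx]
          · refine Or.inr (Or.inr (Or.inl ?_))
            rw [← hu] at h5
            exact mul_right_cancel h5
      constructor
      · have hconj : ∀ y : W, (y : G) * u * (y : G)⁻¹ ∈ ({u, u * x} : Finset G) := by
          rintro ⟨y, hy⟩
          have hcl : ∀ t ∈ W, t * t ∈ ({1, x} : Finset G) := fun t ht => by simpa using hsq t ht
          have hP : ∀ s t : G, s ∈ ({1, x} : Finset G) → t ∈ ({1, x} : Finset G) →
              s * t ∈ ({1, x} : Finset G) := by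
            intro s t hs ht
            simp only [Finset.mem_insert, Finset.mem_singleton] at hs ht ⊢
            rcases hs with rfl | rfl <;> rcases ht with rfl | rfl <;> simp [xx]
          have hc : ⁅y, u⁆ ∈ ({1, x} : Finset G) := by
            rw [commutatorElement_eq_sq_prod, show u⁻¹ * (y⁻¹ * y⁻¹) * u = y⁻¹ * y⁻¹ by
              rcases hsq _ (W.inv_mem hy) with h | h <;> rw [h]
              · group
              · rw [mul_assoc, ← hWx u huW]; group]
            exact hP _ _ (hP _ _ (hcl _ (W.mul_mem hy huW)) (hcl _ (W.inv_mem hy)))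
              (hcl _ (W.inv_mem huW))
          simp only [Finset.mem_insert, Finset.mem_singleton] at hc ⊢
          rw [commutatorElement_def] at hc
          rcases hc with h | h
          · exact Or.inl (mul_inv_eq_one.1 h)
          · refine Or.inr ?_
            rw [mul_inv_eq_iff_eq_mul.1 h, hWx u huW]
        rw [Nat.card_eq_fintype_card, ← Finset.card_univ]
        refine le_trans (Finset.card_le_mul_card_image_of_maps_to
          (f := fun y : W => (y : G) * u * (y : G)⁻¹) (t := ({u, u * x} : Finset G))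
          (fun y _ => hconj y) 4 fun s hs => ?_) ?_
        · rcases Finset.eq_empty_or_nonempty
            (Finset.univ.filter fun y : W => (y : G) * u * (y : G)⁻¹ = s) with h | ⟨y0, hy0⟩
          · rw [h]; simp
          refine le_trans (Finset.card_le_card_of_injOn (fun y : W => ((y0⁻¹ * y : W) : G)) (t := T)
            (fun y hy => ?_) (fun y _ y' _ e => mul_left_cancel (Subtype.ext e))) hT
          refine hmem _ ?_
          have e1 := (Finset.mem_filter.1 hy).2
          have e0 := (Finset.mem_filter.1 hy0).2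
          show (y0 : G)⁻¹ * y * u = u * ((y0 : G)⁻¹ * y)
          calc (y0 : G)⁻¹ * y * u = (y0 : G)⁻¹ * ((y : G) * u * (y : G)⁻¹) * y := by group
            _ = (y0 : G)⁻¹ * ((y0 : G) * u * (y0 : G)⁻¹) * y := by rw [e1, e0]
            _ = _ := by group
        · have : ({u, u * x} : Finset G).card ≤ 2 := Finset.card_le_two
          omega
      · intro hr
        rw [Nat.card_eq_fintype_card, ← Finset.card_univ]
        refine le_trans (Finset.card_le_card_of_injOn (fun y : W => (y : G)) (t := T)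
          (fun v _ => ?_) (fun y _ y' _ e => Subtype.ext e)) hT
        refine hmem v ?_
        obtain ⟨g, hg⟩ := hS.oddInv.pre.transitive a c
        rcases hsq v v.2 with h | h
        · rcases hinvol _ v.2 h with h' | h' <;> rw [h']
          · simp
          · exact (hWx u huW).symm
        · have e : ∀ t : G, g⁻¹ * t * g * (g⁻¹ * t * g) = g⁻¹ * (t * t) * g := fun t => by group
          have h2 := hS.sq_inj_mod hr (hS.conj_kernel hK hg (hWK huW))
            (hS.conj_kernel hK hg (hWK v.2)) (by rw [e, e, hu, h]) (fun h0 => x1 (by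
              rw [e, hu] at h0
              calc x = g * (g⁻¹ * x * g) * g⁻¹ := by group
                _ = 1 := by rw [h0]; group))
          have h3 : u⁻¹ * v * (u⁻¹ * v) = 1 := by
            calc u⁻¹ * v * (u⁻¹ * v)
                = g * ((g⁻¹ * u * g)⁻¹ * (g⁻¹ * v * g) * ((g⁻¹ * u * g)⁻¹ * (g⁻¹ * v * g))) * g⁻¹ := by
                  group
              _ = 1 := by rw [h2]; group
          rcases hinvol _ (W.mul_mem (W.inv_mem huW) v.2) h3 with h4 | h4
          · rw [← inv_mul_eq_one.1 h4]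
          · have h6 : (v : G) = u * x := by rw [← h4, mul_inv_cancel_left]
            rw [h6, mul_assoc, ← hWx u huW]
    · push Not at hex
      have : Nat.card W ≤ 2 := by
        rw [Nat.card_eq_fintype_card, ← Finset.card_univ]
        refine le_trans (Finset.card_le_card_of_injOn (fun y : W => (y : G)) (t := ({1, x} : Finset G))
          (fun v _ => ?_) (fun y _ y' _ e => Subtype.ext e)) Finset.card_le_two
        rcases hinvol _ v.2 ((hsq v v.2).resolve_right (hex v)) with h | h <;> simp [h]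
      exact ⟨by omega, fun _ => by omega⟩
  refine ⟨?_, ?_, fun hr h8 => by have := hsmall.2 hr; omega⟩
  · obtain ⟨j, hj⟩ := IsPGroup.iff_card.1 hW2
    have h8 := hsmall.1
    rw [hj] at hW1 h8 ⊢
    have hj3 : j ≤ 3 := by
      by_contra hgt
      have := Nat.pow_le_pow_right (show 1 ≤ 2 by omega) (show 4 ≤ j by omega)
      omega
    interval_cases j <;> simp_all
  · -- `W` acts freely on the nontrivial elements of `A`
    letI : MulAction W {z : A // z ≠ 1} :=
      { smul := fun t z => ⟨⟨(t : G) * z.1 * (t : G)⁻¹,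
            (Subgroup.mem_normalizer_iff.1 t.2.1 _).1 z.1.2⟩, fun e => z.2 (Subtype.ext (by
            have e' : (t : G) * z.1 * (t : G)⁻¹ = 1 := congrArg Subtype.val e
            exact conj_eq_one_iff.1 e'))⟩
        one_smul := fun z => Subtype.ext (Subtype.ext
          (show ((1 : W) : G) * z.1 * ((1 : W) : G)⁻¹ = z.1 by simp))
        mul_smul := fun s t z => Subtype.ext (Subtype.ext
          (show ((s * t : W) : G) * z.1 * ((s * t : W) : G)⁻¹ = s * (t * z.1 * (t : G)⁻¹) * (s : G)⁻¹ by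
            push_cast; group)) }
    have hfree : ∀ z : {z : A // z ≠ 1}, MulAction.stabilizer W z = ⊥ := by
      intro z
      rw [eq_bot_iff]
      intro t ht
      have h1 : (t : G) * z.1 * (t : G)⁻¹ = z.1 := congrArg (fun w => ((w : A) : G)) (congrArg Subtype.val ht)
      refine Subgroup.mem_bot.2 (Subtype.ext (hAW _ ?_ t.2))
      rw [← hS.torus_centralizer hA z.1.2 (fun e => z.2 (Subtype.ext e))]
      exact Subgroup.mem_centralizer_singleton_iff.2 (mul_inv_eq_iff_eq_mul.1 h1)
    have h := Nat.card_congr (MulAction.selfEquivOrbitsQuotientProd hfree)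
    haveI := Fintype.ofFinite A
    rw [Nat.card_prod, Nat.card_eq_fintype_card, Fintype.card_subtype_compl,
      Fintype.card_subtype_eq, ← Nat.card_eq_fintype_card] at h
    exact Dvd.intro_left _ h.symm

end torus

end Setting

end CfsgLib.ZT
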